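import Cfsg.Agent.Lib.Coprime.FixedFree.Centralised.Solvable
import Cfsg.Agent.Lib.Components.GenFitting

/-!
# The layer of an invariant subgroup `H = [H, α]`

If `H` is stable, normalised by the fixed points of a coprime automorphism `β` of prime order and
`H = [H, β]`, then `E(H) ≤ E(G)`.
-/

set_option autoImplicit false
set_option linter.style.haveILetI false
set_option linter.unusedSectionVars false

universe u

namespace Cfsg.Agent.FixedFree.Centralised

open Subgroup CfsgLib.Components
open scoped commutatorElement

variable {G : Type u} [Group G] [Finite G]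

/-- A perfect subgroup of the generalised Fitting subgroup lies in the layer. -/
theorem le_layer_of_perfect {K : Subgroup G} [Group.IsPerfect K]
    (h : K ≤ Cfsg.generalizedFittingSubgroup G) : K ≤ Cfsg.layer G := by
  set π := QuotientGroup.mk' (Cfsg.layer G) with hπ
  haveI : Group.IsNilpotent ((Cfsg.fittingSubgroup G).map π) :=
    Group.nilpotent_of_surjective _ (MonoidHom.subgroupMap_surjective π _)
  have hle : K.map π ≤ (Cfsg.fittingSubgroup G).map π := by
    refine (map_mono h).trans ?_
    rw [Cfsg.generalizedFittingSubgroup, Subgroup.map_sup, QuotientGroup.map_mk'_self, bot_sup_eq]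
  have hnil : Group.IsNilpotent (K.map π) := by
    haveI := (inferInstance : Group.IsNilpotent ((Cfsg.fittingSubgroup G).map π))
    exact (Group.isNilpotent_congr (subgroupOfEquivOfLe hle)).mp inferInstance
  have h1 : π.comp K.subtype = 1 := eq_one_of_solvable_range _ (by
    rw [MonoidHom.range_comp, range_subtype]
    haveI := hnil
    infer_instance)
  intro x hx
  exact (QuotientGroup.eq_one_iff x).mp (DFunLike.congr_fun h1 ⟨x, hx⟩)

/-- A family of components closed under an automorphism spans a subgroup stable under it. -/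
theorem sSup_components_stable {H : Subgroup G} (N : Subgroup G) (e : MulAut H)
    (he : ∀ x : H, (e x : G) ∈ N → (x : G) ∈ N) :
    Stable e (sSup {K : Subgroup H | Cfsg.IsComponent K ∧ ¬ K.map H.subtype ≤ N}) := by
  intro x hx
  have hle : (sSup {K : Subgroup H | Cfsg.IsComponent K ∧ ¬ K.map H.subtype ≤ N}) ≤
      (sSup {K : Subgroup H | Cfsg.IsComponent K ∧ ¬ K.map H.subtype ≤ N}).comap e.toMonoidHom := by
    refine sSup_le fun K hK => map_le_iff_le_comap.mp (le_sSup ⟨IsComponent.mapEquiv hK.1 e, fun h => hK.2 ?_⟩)
    rintro _ ⟨k, hk, rfl⟩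
    exact he k (h ⟨e k, ⟨k, hk, rfl⟩, rfl⟩)
  exact hle hx

/-- `E(H) ≤ E(G)` for `H = [H, β]` invariant under `β` and its fixed points. -/
theorem layer_le_of_commSub (β : MulAut G) {r : ℕ} (hr : r.Prime) (hβ : β ^ r = 1)
    (hcop : ¬ r ∣ Nat.card G) (H : Subgroup G) (hHs : Stable β H)
    (hfix : fixedSub β ≤ normalizer (H : Set G)) (hgen : commSub β H = H) :
    (Cfsg.layer ↥H).map H.subtype ≤ Cfsg.layer G := by
  set N := Cfsg.generalizedFittingSubgroup G with hN
  have hNs : Stable β N := stable_of_characteristic N β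
  set L0 := sSup {K : Subgroup H | Cfsg.IsComponent K ∧ ¬ K.map H.subtype ≤ N} with hL0
  haveI hL0p : Group.IsPerfect L0 := isPerfect_sSup fun K hK => hK.1.2.1
  haveI hL0n : L0.Normal := ⟨fun x hx h => by
    refine sSup_components_stable N (MulAut.conj h) (fun y hy => ?_) x hx
    have h2 : (h : G) * y * (h : G)⁻¹ ∈ N := hy
    simpa [mul_assoc] using Subgroup.Normal.conj_mem inferInstance _ h2 (h : G)⁻¹⟩
  have hL0s : Stable (resAut β H hHs) L0 := sSup_components_stable N _ fun y hy => by
    rw [resAut_apply] at hy
    exact (hNs.apply_mem_iff).mp hy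
  have hcenN : L0 ≤ centralizer ((N.subgroupOf H : Subgroup H) : Set H) := sSup_le fun K hK =>
    commutator_eq_bot_iff_le_centralizer.mp
      ((IsComponent.le_or_commutator_eq_bot_of_normal hK.1 (N.subgroupOf H)).resolve_left
        fun h => hK.2 (map_le_iff_le_comap.mpr h))
  set L := L0.map H.subtype with hL
  haveI hLp : Group.IsPerfect L := Group.IsPerfect.map H.subtype
  set D := fixedSub β ⊓ N with hD
  have hDL : D ≤ normalizer (L : Set G) := by
    intro d hd
    have hdH := hfix hd.1
    let e : H ≃* H :=
      ((MulAut.conj d).subgroupMap H).trans (MulEquiv.subgroupCongr (map_conj_le_of_le_normalizer hdH))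
    have hev : ∀ x : H, (e x : G) = d * x * d⁻¹ := fun x => rfl
    have hes : Stable e L0 := sSup_components_stable N e fun y hy => by
      rw [hev] at hy
      simpa [mul_assoc] using Subgroup.Normal.conj_mem inferInstance _ hy d⁻¹
    rw [CfsgLib.Components.mem_normalizer_iff_map_conj_eq]
    refine Subgroup.eq_of_le_of_card_ge ?_ (le_of_eq
      (card_map_of_injective (K := L) (MulAut.conj d).injective).symm)
    rintro _ ⟨_, ⟨x, hx, rfl⟩, rfl⟩
    exact ⟨e x, hes x hx, rfl⟩
  have hcomm : ⁅D, L⁆ = ⊥ := by
    refine commutator_eq_bot_of_perfect hLp ?_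
    rw [commutator_eq_bot_iff_le_centralizer]
    intro z hz
    have hzL : z ∈ L := commutator_le_right_of_le_normalizer hDL hz
    have hzN : z ∈ N := commutator_le_left_of_le_normalizer
      (by rw [normalizer_eq_top]; exact le_top : L ≤ normalizer (N : Set G))
      (commutator_mono inf_le_right le_rfl hz)
    obtain ⟨z', -, rfl⟩ := hzL
    rw [mem_centralizer_iff]
    rintro _ ⟨x, hx, rfl⟩
    exact congrArg Subtype.val (mem_centralizer_iff.mp (hcenN hx) z' hzN).symm
  have htriv := eq_one_of_normal_perfect
    ((MulAut.conjNormal (G := G) (H := N)).comp H.subtype) (resAut β H hHs) (resAut β N hNs)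
    hr (resAut_pow_eq_one hNs hβ) (fun x => MulEquiv.ext fun m => by
      obtain ⟨l, rfl⟩ := (resAut β N hNs).surjective m
      rw [MulAut.mul_apply, MulAut.mul_apply, MulAut.inv_apply_self]
      refine Subtype.ext ?_
      simp only [MonoidHom.comp_apply, coe_subtype, MulAut.conjNormal_apply, resAut_apply,
        map_mul, map_inv])
    (commSub_resAut_eq_top hHs hgen)
    (fun hd => hcop (hd.trans (card_subgroup_dvd_card H)))
    (fun hd => hcop (hd.trans (card_subgroup_dvd_card N)))
    L0 hL0s (fun x hx m hm => Subtype.ext (by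
      have hmD : (m : G) ∈ D :=
        ⟨mem_fixedSub.mpr (by rw [← resAut_apply β N hNs m, hm]), m.2⟩
      have h1 : Commute (m : G) (x : G) := commutatorElement_eq_one_iff_commute.mp
        (mem_bot.mp (hcomm ▸ commutator_mem_commutator hmD (mem_map_of_mem H.subtype hx)))
      simp only [MonoidHom.comp_apply, coe_subtype, MulAut.conjNormal_apply]
      rw [← h1.eq, mul_inv_cancel_right]))
  have hLC : L ≤ centralizer (N : Set G) := by
    rintro _ ⟨x, hx, rfl⟩
    rw [mem_centralizer_iff]
    intro m hm
    have h1 := congrArg Subtype.val (DFunLike.congr_fun (htriv x hx) ⟨m, hm⟩)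
    simp only [MonoidHom.comp_apply, coe_subtype, MulAut.conjNormal_apply, MulAut.one_apply] at h1
    show m * (x : G) = x * m
    conv_lhs => rw [← h1]
    group
  have hL1 : L = ⊥ := by
    have hle : L ≤ Cfsg.fittingSubgroup G := hLC.trans centralizer_generalizedFitting_le_fitting
    have hnil : Group.IsNilpotent L :=
      (Group.isNilpotent_congr (subgroupOfEquivOfLe hle)).mp inferInstance
    have h1 : L.subtype = 1 := eq_one_of_solvable_range _ (by
      rw [range_subtype]; haveI := hnil; infer_instance)
    rw [eq_bot_iff]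
    intro x hx
    exact mem_bot.mpr (DFunLike.congr_fun h1 (⟨x, hx⟩ : L) : x = 1)
  rw [map_le_iff_le_comap, layer_le_iff]
  intro K hK
  rw [← map_le_iff_le_comap]
  by_cases hKN : K.map H.subtype ≤ N
  · haveI : Group.IsPerfect K := hK.2.1
    haveI : Group.IsPerfect (K.map H.subtype) := Group.IsPerfect.map H.subtype
    exact le_layer_of_perfect hKN
  · exact absurd ((map_mono (le_sSup ⟨hK, hKN⟩ : K ≤ L0)).trans (hL1.le.trans bot_le)) hKN

end Cfsg.Agent.FixedFree.Centralised
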