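import Cfsg.Agent.Lib.Coprime.FixedFree.Centralised.Tools
import Cfsg.Agent.Lib.Components.GlaubermanAut
import Cfsg.Agent.Lib.OddOrder.Final.Main
import Cfsg.Agent.Lib.Solvable.FPFNilpotent

/-!
# A perfect group centralising the fixed points of a coprime automorphism of prime order

If `X` is perfect, `X = [X, α]`, and acts on `G` compatibly with the automorphism `β` of `G` so
that the fixed points of `β` are centralised, then `X` acts trivially. The proof reduces to a
group without invariant normal subgroups; there either `X` centralises an invariant Sylow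
`2`-subgroup, and Glauberman's theorem applies, or `β` has no fixed points on one, and the
normaliser of that Sylow subgroup in `G ⋊ X` reduces to the `p`-group case.
-/

set_option autoImplicit false
set_option linter.style.haveILetI false
set_option linter.unusedSectionVars false

universe u

namespace Cfsg.Agent.FixedFree.Centralised

open Subgroup
open scoped commutatorElement

variable {G : Type u} [Group G] [Finite G] {X : Type u} [Group X] [Finite X]

/-- A perfect group centralising a Sylow `2`-subgroup of a group without odd normal subgroup. -/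
theorem eq_one_of_fixes_sylow [Group.IsPerfect X]
    (hO : ∀ N : Subgroup G, N.Normal → Odd (Nat.card N) → N = ⊥) (S : Sylow 2 G)
    (ψ : X →* MulAut G) (h : ∀ x, ∀ s : G, s ∈ S → ψ x s = s) : ψ = 1 :=
  eq_one_of_solvable_range ψ (CfsgLib.Components.GlaubermanAut.main hO S (C := ψ.range)
    (by rintro _ ⟨x, rfl⟩; exact h x)
    (fun H _ _ hH => CfsgLib.OddOrder.Final.oddSolvable H hH)).2

theorem eq_one_aux (n : ℕ) : ∀ {G : Type u} [Group G] [Finite G] {X : Type u} [Group X] [Finite X]
    [Group.IsPerfect X] (φ : X →* MulAut G) (α : MulAut X) (β : MulAut G) {r : ℕ},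
    Nat.card G ≤ n → r.Prime → α ^ r = 1 → β ^ r = 1 → (∀ x, φ (α x) = β * φ x * β⁻¹) →
    commSub α (⊤ : Subgroup X) = ⊤ → ¬ r ∣ Nat.card X → ¬ r ∣ Nat.card G →
    (∀ x g, β g = g → φ x g = g) → φ = 1 := by
  induction n using Nat.strong_induction_on with
  | _ n IH =>
  intro G _ _ X _ _ _ φ α β r hn hr hα hβ hφ hgen hcX hcG hcen
  haveI : Fact r.Prime := ⟨hr⟩
  haveI : Fact (Nat.Prime 2) := ⟨Nat.prime_two⟩
  have hφ' : ∀ x g, φ (α x) (β g) = β (φ x g) := fun x g => by
    rw [hφ, MulAut.mul_apply, MulAut.mul_apply, MulAut.inv_apply_self]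
  -- the action on a proper invariant subgroup is trivial
  have hres : ∀ N : Subgroup G, N ≠ ⊤ → Stable β N → (∀ x, Stable (φ x) N) →
      ∀ x, ∀ m ∈ N, φ x m = m := by
    intro N hNt hNβ hNφ x m hm
    have hlt : Nat.card N < Nat.card G := lt_of_le_of_ne (Subgroup.card_le_card_group N)
      fun e => hNt (Subgroup.eq_top_of_card_eq N e)
    have h := IH (Nat.card N) (lt_of_lt_of_le hlt hn) (restrictHom φ N hNφ) α (resAut β N hNβ)
      le_rfl hr hα (resAut_pow_eq_one hNβ hβ) (fun y => MulEquiv.ext fun k => by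
        obtain ⟨l, rfl⟩ := (resAut β N hNβ).surjective k
        refine Subtype.ext ?_
        rw [MulAut.mul_apply, MulAut.mul_apply, MulAut.inv_apply_self, restrictHom_apply,
          resAut_apply, resAut_apply, restrictHom_apply, hφ'])
      hgen hcX (fun hd => hcG (hd.trans (card_subgroup_dvd_card N)))
      (fun y k hk => Subtype.ext (by
        rw [restrictHom_apply]
        exact hcen y k (by rw [← resAut_apply β N hNβ k, hk])))
    have := congrArg Subtype.val (DFunLike.congr_fun (DFunLike.congr_fun h x) ⟨m, hm⟩)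
    simpa using this
  -- reduction to a group without invariant normal subgroups
  by_cases hN : ∃ N : Subgroup G, N.Normal ∧ Stable β N ∧ (∀ x, Stable (φ x) N) ∧ N ≠ ⊥ ∧ N ≠ ⊤
  · obtain ⟨N, hNn, hNβ, hNφ, hN1, hN2⟩ := hN
    refine eq_one_of_chain φ N (hres N hN2 hNβ hNφ) fun x g => ?_
    have hdvd : ¬ r ∣ Nat.card N := fun hd => hcG (hd.trans (card_subgroup_dvd_card N))
    have hlt : Nat.card (G ⧸ N) < Nat.card G := by
      rw [card_eq_card_quotient_mul_card_subgroup N]
      exact lt_mul_of_one_lt_right Nat.card_pos (N.one_lt_card_iff_ne_bot.mpr hN1)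
    have h := IH (Nat.card (G ⧸ N)) (lt_of_lt_of_le hlt hn) (quotientHom φ N hNφ) α
      (quotAut β N hNβ) le_rfl hr hα (quotAut_pow_eq_one hNβ hβ) (fun y => MulEquiv.ext fun k => by
        obtain ⟨g', rfl⟩ := QuotientGroup.mk'_surjective N k
        obtain ⟨l, rfl⟩ := β.surjective g'
        rw [← quotAut_mk' β N hNβ l, MulAut.mul_apply, MulAut.mul_apply, MulAut.inv_apply_self,
          quotAut_mk', quotientHom_apply, quotientHom_apply, quotAut_mk', hφ'])
      hgen hcX (fun hd => hcG (hd.trans (card_quotient_dvd_card N)))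
      (fun y k hk => by
        obtain ⟨g', hg', rfl⟩ := exists_fixed_lift hNβ hβ hdvd hk
        rw [quotientHom_apply, hcen y g' hg'])
    have h1 := DFunLike.congr_fun (DFunLike.congr_fun h x) (QuotientGroup.mk' N g)
    rw [quotientHom_apply] at h1
    exact QuotientGroup.eq.mp (Eq.symm h1)
  push Not at hN
  have hmin : ∀ N : Subgroup G, N.Normal → Stable β N → (∀ x, Stable (φ x) N) → N = ⊥ ∨ N = ⊤ :=
    fun N h1 h2 h3 => (em (N = ⊥)).imp_right fun hb => hN N h1 h2 h3 hb
  have hchar : ∀ C : Subgroup G, C.Characteristic → C = ⊥ ∨ C = ⊤ := fun C hC =>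
    hmin C inferInstance (stable_of_characteristic C β) fun x => stable_of_characteristic C _
  rcases subsingleton_or_nontrivial G with hG1 | hG1
  · exact MonoidHom.ext fun x => MulEquiv.ext fun g => Subsingleton.elim _ _
  by_cases hab : commutator G = ⊥
  · -- the abelian case
    have hcomm : ∀ a b : G, a * b = b * a := fun a b => by
      rw [← commutatorElement_eq_one_iff_mul_comm, ← mem_bot, ← hab, commutator_def]
      exact commutator_mem_commutator (mem_top a) (mem_top b)
    have hnorm : ∀ H : Subgroup G, H.Normal := fun H => ⟨fun a ha g => by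
      rwa [hcomm g a, mul_inv_cancel_right]⟩
    rcases hmin (fixedSub β) (hnorm _) (stable_fixedSub β)
        (fun x g hg => by rw [hcen x g hg]; exact hg) with hD | hD
    · obtain ⟨p, hp, hpG⟩ := Nat.exists_prime_and_dvd (n := Nat.card G) Finite.one_lt_card.ne'
      haveI : Fact p.Prime := ⟨hp⟩
      obtain ⟨P⟩ : Nonempty (Sylow p G) := inferInstance
      haveI := hnorm P
      have hPG : IsPGroup p G := by
        rcases hchar P (Sylow.characteristic_of_normal P inferInstance) with h | h
        · exact absurd h (P.ne_bot_of_dvd_card hpG)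
        · intro g
          obtain ⟨k, hk⟩ := P.2 ⟨g, h ▸ mem_top g⟩
          exact ⟨k, congrArg Subtype.val hk⟩
      exact eq_one_of_pGroup hPG hr (fun e => hcG (e ▸ hpG)) φ α β hα hβ hφ
        (fun g hg => mem_bot.mp (hD ▸ mem_fixedSub.mpr hg)) hgen hcX
    · exact MonoidHom.ext fun x => MulEquiv.ext fun g =>
        hcen x g (mem_fixedSub.mp (hD ▸ mem_top g))
  -- the nonabelian case
  have hperf : commutator G = ⊤ := (hchar _ inferInstance).resolve_left hab
  haveI : Group.IsPerfect G := ⟨hperf⟩
  have hnsol : ¬ Group.IsSolvable G := Group.IsPerfect.not_isSolvable G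
  have hcenter : center G = ⊥ := by
    refine (hchar _ inferInstance).resolve_right fun h => hab ?_
    rw [commutator_def, commutator_eq_bot_iff_le_centralizer]
    intro g _
    refine mem_centralizer_iff.mpr fun k _ => ?_
    exact ((mem_center_iff.mp (h ▸ mem_top k)) g).symm
  have hO : ∀ N : Subgroup G, N.Normal → Odd (Nat.card N) → N = ⊥ := by
    intro N hNn hNo
    have hle : N ≤ Cfsg.pPrimeCore 2 G :=
      CfsgLib.Solvable.Cores.le_pPrimeCore (Nat.coprime_two_right.mpr hNo)
    rcases hchar (Cfsg.pPrimeCore 2 G) inferInstance with h | h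
    · exact le_bot_iff.mp (h ▸ hle)
    · refine absurd (CfsgLib.OddOrder.Final.oddSolvable G ?_) hnsol
      have := CfsgLib.Solvable.Cores.coprime_card_pPrimeCore (G := G) 2
      rw [h, card_top] at this
      exact Nat.coprime_two_right.mp this
  by_cases hS : ∃ S : Subgroup G, S ≠ ⊥ ∧ IsPGroup 2 S ∧ Stable β S ∧ ∀ x, ∀ s ∈ S, φ x s = s
  · -- a Sylow `2`-subgroup is centralised
    obtain ⟨S0, hS0⟩ := hS
    haveI : Nonempty {S : Subgroup G // S ≠ ⊥ ∧ IsPGroup 2 S ∧ Stable β S ∧
      ∀ x, ∀ s ∈ S, φ x s = s} := ⟨⟨S0, hS0⟩⟩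
    obtain ⟨⟨S, hS1, hS2, hSβ, hSφ⟩, hmax⟩ := Finite.exists_max
      (fun S : {S : Subgroup G // S ≠ ⊥ ∧ IsPGroup 2 S ∧ Stable β S ∧ ∀ x, ∀ s ∈ S, φ x s = s} =>
        Nat.card S.1)
    have hNφ : ∀ x, Stable (φ x) (normalizer (S : Set G)) := by
      intro x g hg
      rw [mem_normalizer_iff] at hg ⊢
      intro s
      obtain ⟨t, rfl⟩ := (φ x).surjective s
      have hiff : ∀ y : G, φ x y ∈ S ↔ y ∈ S := fun y => by
        refine ⟨fun h => ?_, fun h => by rw [hSφ x y h]; exact h⟩
        have e : φ x⁻¹ (φ x y) = y := by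
          rw [← MulAut.mul_apply, ← map_mul, inv_mul_cancel, map_one]; rfl
        rw [← e, hSφ x⁻¹ _ h]; exact h
      rw [← map_inv, ← map_mul, ← map_mul, hiff, hiff]
      exact hg t
    have hNt : normalizer (S : Set G) ≠ ⊤ := by
      intro h
      haveI : S.Normal := normalizer_eq_top_iff.mp h
      rcases hmin S inferInstance hSβ (fun x s hs => by rw [hSφ x s hs]; exact hs) with h' | h'
      · exact hS1 h'
      · haveI : Group.IsNilpotent G := by
          rw [h'] at hS2
          exact (hS2.of_equiv Subgroup.topEquiv).isNilpotent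
        exact hnsol inferInstance
    have htriv := hres _ hNt hSβ.normalizer hNφ
    obtain ⟨P, hP, hPs, hSP⟩ := exists_le_stable_sylowIn hβ hSβ.normalizer
      (fun hd => hcG (hd.trans (card_subgroup_dvd_card _))) Subgroup.le_normalizer hS2 hSβ
    have hPS : P = S := by
      refine (Subgroup.eq_of_le_of_card_ge hSP ?_).symm
      exact hmax ⟨P, fun h => hS1 (le_bot_iff.mp (h ▸ hSP)), hP.2.1, hPs,
        fun x s hs => htriv x s (hP.1 hs)⟩
    rw [hPS] at hP
    have hsyl : IsSylowIn 2 S ⊤ :=
      isSylowIn_of_normalizer le_top hS2 (by rw [top_inf_eq]; exact hP.2.2)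
    exact eq_one_of_fixes_sylow hO
      (hS2.toSylow (by rw [← relIndex_top_right]; exact hsyl.2.2)) φ
      fun x s hs => hSφ x s hs
  push Not at hS
  obtain ⟨T, hTs⟩ := exists_stable_sylow (α := β) hβ hcG 2
  have hTfree : ∀ t ∈ (T : Subgroup G), β t = t → t = 1 := by
    intro t ht hfix
    by_contra hne
    have hle : zpowers t ≤ fixedSub β := zpowers_le.mpr (mem_fixedSub.mpr hfix)
    obtain ⟨x, s, hs, hne'⟩ := hS (zpowers t) (by rwa [ne_eq, zpowers_eq_bot])
      (T.2.to_le (zpowers_le.mpr ht)) (stable_of_le_fixedSub hle)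
    exact hne' (hcen x s (mem_fixedSub.mp (hle hs)))
  -- the group `G ⋊ X`
  have hlift : ∀ x : X, (MulAut.conj (G := G)).comp (φ x).toMonoidHom =
      (MulAut.conj (φ x)).toMonoidHom.comp (MulAut.conj (G := G)) := by
    intro x
    refine MonoidHom.ext fun g => MulEquiv.ext fun k => ?_
    show φ x g * k * (φ x g)⁻¹ = φ x (g * ((φ x)⁻¹ k) * g⁻¹)
    rw [map_mul, map_mul, map_inv, MulAut.apply_inv_self]
  let ψ : SemidirectProduct G X φ →* MulAut G := SemidirectProduct.lift MulAut.conj φ hlift
  let γ : MulAut (SemidirectProduct G X φ) := SemidirectProduct.congr β α fun x =>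
    MulEquiv.ext fun g => (hφ' x g).symm
  haveI : Finite (SemidirectProduct G X φ) :=
    Finite.of_equiv _ SemidirectProduct.equivProd.symm
  have hγpow : ∀ (i : ℕ) (m : SemidirectProduct G X φ),
      (γ ^ i) m = ⟨(β ^ i) m.left, (α ^ i) m.right⟩ := by
    intro i m
    induction i with
    | zero => simp
    | succ i ih =>
      rw [pow_succ', MulAut.mul_apply, ih, pow_succ', pow_succ']
      rfl
  have hγ : γ ^ r = 1 := MulEquiv.ext fun m => by rw [hγpow, hα, hβ]; rfl
  have hψγ : ∀ m, ψ (γ m) = β * ψ m * β⁻¹ := by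
    intro m
    show MulAut.conj (β m.left) * φ (α m.right) = β * (MulAut.conj m.left * φ m.right) * β⁻¹
    refine MulEquiv.ext fun k => ?_
    obtain ⟨l, rfl⟩ := β.surjective k
    simp only [MulAut.mul_apply, MulAut.inv_apply_self, MulAut.conj_apply, hφ', map_mul, map_inv]
  set Y := (CfsgLib.Components.GlaubermanAut.stabAut T).comap ψ with hY
  have hYs : Stable γ Y := by
    intro m hm s
    rw [hψγ, MulAut.mul_apply, MulAut.mul_apply, hTs.apply_mem_iff]
    refine (hm (β⁻¹ s)).trans ?_
    have h := hTs.apply_mem_iff (g := β⁻¹ s)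
    rw [MulAut.apply_inv_self] at h
    exact h.symm
  have hYmap : Y.map SemidirectProduct.rightHom = ⊤ := by
    rw [eq_top_iff]
    intro x _
    let T' : Sylow 2 G := T.mapSurjective (f := (φ x).toMonoidHom) (φ x).surjective
    obtain ⟨g, hg⟩ := MulAction.exists_smul_eq G T' T
    have hT : (T : Subgroup G) =
        ((T : Subgroup G).map (φ x).toMonoidHom).map (MulAut.conj g).toMonoidHom := by
      conv_lhs => rw [← hg, Sylow.coe_subgroup_smul]
      rfl
    refine ⟨⟨g, x⟩, fun s => ?_, rfl⟩
    show MulAut.conj g (φ x s) ∈ (T : Subgroup G) ↔ _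
    conv_lhs => rw [hT]
    rw [Subgroup.map_map]
    exact Subgroup.mem_map_iff_mem ((MulAut.conj g).injective.comp (φ x).injective) (x := s)
  haveI : Nonempty {W : Subgroup (SemidirectProduct G X φ) // W ≤ Y ∧ Stable γ W ∧
      W.map SemidirectProduct.rightHom = ⊤} := ⟨⟨Y, le_rfl, hYs, hYmap⟩⟩
  obtain ⟨⟨W, hWY, hWs, hWmap⟩, hWmin⟩ := Finite.exists_min
    (fun W : {W : Subgroup (SemidirectProduct G X φ) // W ≤ Y ∧ Stable γ W ∧
      W.map SemidirectProduct.rightHom = ⊤} => Nat.card W.1)
  have hWeq : ∀ W' ≤ W, Stable γ W' → W'.map SemidirectProduct.rightHom = ⊤ → W' = W :=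
    fun W' hle hs hm => Subgroup.eq_of_le_of_card_ge hle (hWmin ⟨W', hle.trans hWY, hs, hm⟩)
  have hWperf : ⁅W, W⁆ = W := hWeq _ (Subgroup.commutator_le_self W)
    (stable_commutator γ hWs hWs)
    (by rw [map_commutator, hWmap, ← commutator_def, Group.IsPerfect.commutator_eq_top])
  have hWgen : commSub γ W = W := hWeq _ (commSub_le hWs) (stable_commSub hWs)
    (by rw [map_commSub SemidirectProduct.rightHom (β := α) (fun _ => rfl), hWmap, hgen])
  haveI : Group.IsPerfect W := Subgroup.isPerfect_iff.mpr hWperf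
  have hcW : ¬ r ∣ Nat.card W := by
    intro hd
    have h := hd.trans (card_subgroup_dvd_card W)
    rw [SemidirectProduct.card] at h
    exact (hr.dvd_mul.mp h).elim hcG hcX
  let χ : W →* MulAut (T : Subgroup G) := (CfsgLib.Components.GlaubermanAut.res T).comp
    ((ψ.comp W.subtype).codRestrict (CfsgLib.Components.GlaubermanAut.stabAut T)
      fun w => hWY w.2)
  have hχval : ∀ (w : W) (s : (T : Subgroup G)), (χ w s : G) = ψ w.1 s := fun w s => rfl
  have hχ : χ = 1 := by
    refine eq_one_of_pGroup T.2 hr (fun e => ?_) χ (resAut γ W hWs) (resAut β T hTs)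
      (resAut_pow_eq_one hWs hγ) (resAut_pow_eq_one hTs hβ) (fun w => ?_) (fun t ht => ?_)
      (commSub_resAut_eq_top hWs hWgen) hcW
    · have h2 : 2 ∣ Nat.card G := by
        by_contra h2
        exact hnsol (CfsgLib.OddOrder.Final.oddSolvable G
          (Nat.not_even_iff_odd.mp fun h => h2 (even_iff_two_dvd.mp h)))
      exact hcG (e ▸ h2)
    · refine MulEquiv.ext fun s => ?_
      obtain ⟨t, rfl⟩ := (resAut β (T : Subgroup G) hTs).surjective s
      rw [MulAut.mul_apply, MulAut.mul_apply, MulAut.inv_apply_self]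
      refine Subtype.ext ?_
      rw [resAut_apply, hχval, hχval, resAut_apply, resAut_apply, hψγ, MulAut.mul_apply,
        MulAut.mul_apply, MulAut.inv_apply_self]
    · exact Subtype.ext (hTfree t t.2 (by rw [← resAut_apply β (T : Subgroup G) hTs t, ht]))
  have hW1 : ψ.comp W.subtype = 1 := eq_one_of_fixes_sylow hO T _ fun w s hs => by
    have h := congrArg Subtype.val (DFunLike.congr_fun (DFunLike.congr_fun hχ w) ⟨s, hs⟩)
    rw [hχval] at h
    exact h
  -- every element acts as an inner automorphism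
  have hinner : ∀ x, ∃ g, φ x = MulAut.conj g := by
    intro x
    obtain ⟨w, hw, hwx⟩ := (hWmap ▸ mem_top x : x ∈ W.map SemidirectProduct.rightHom)
    have h : MulAut.conj w.left * φ w.right = 1 := DFunLike.congr_fun hW1 ⟨w, hw⟩
    refine ⟨w.left⁻¹, ?_⟩
    rw [show x = w.right from hwx.symm, map_inv]
    exact eq_inv_of_mul_eq_one_right h
  choose h hh using hinner
  have hinj : ∀ a b : G, MulAut.conj a = MulAut.conj b → a = b := by
    intro a b e
    have hm : b⁻¹ * a ∈ center G := by
      rw [mem_center_iff]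
      intro k
      have := DFunLike.congr_fun e k
      simp only [MulAut.conj_apply] at this
      calc k * (b⁻¹ * a) = b⁻¹ * (b * k * b⁻¹) * a := by group
        _ = b⁻¹ * a * k := by rw [← this]; group
    rw [hcenter, mem_bot, inv_mul_eq_one] at hm
    exact hm.symm
  let H : X →* G := MonoidHom.mk' h fun x y => hinj _ _ (by
    rw [map_mul, ← hh, ← hh, ← hh, map_mul])
  have hHα : ∀ x, h (α x) = β (h x) := fun x => hinj _ _ (by
    rw [← hh, hφ, hh]
    refine MulEquiv.ext fun k => ?_
    simp only [MulAut.mul_apply, MulAut.conj_apply, map_mul, map_inv, MulAut.apply_inv_self])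
  by_cases hH : H.range = ⊤
  · -- fixed points are central, so absent
    have hfpf : ∀ g, β g = g → g = 1 := by
      intro g hg
      rw [← mem_bot, ← hcenter, mem_center_iff]
      intro k
      obtain ⟨x, rfl⟩ := (hH ▸ mem_top k : k ∈ H.range)
      have h1 : h x * g * (h x)⁻¹ = g := by
        have := hcen x g hg
        rwa [hh, MulAut.conj_apply] at this
      show h x * g = g * h x
      conv_rhs => rw [← h1]
      group
    haveI := CfsgLib.Solvable.FPFNilpotent.isNilpotent_of_mulAut hr β hβ hfpf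
    exact (hnsol inferInstance).elim
  · have hstab : ∀ x, Stable (φ x) H.range := by
      rintro x _ ⟨y, rfl⟩
      rw [hh, MulAut.conj_apply]
      exact mul_mem (mul_mem ⟨x, rfl⟩ ⟨y, rfl⟩) (inv_mem ⟨x, rfl⟩)
    have hβs : Stable β H.range := by
      rintro _ ⟨y, rfl⟩
      exact ⟨α y, hHα y⟩
    have htriv := hres H.range hH hβs hstab
    haveI : IsMulCommutative H.range := ⟨⟨by
      rintro ⟨_, x, rfl⟩ ⟨_, y, rfl⟩
      refine Subtype.ext ?_
      have h1 := htriv x (H y) ⟨y, rfl⟩
      rw [hh, MulAut.conj_apply] at h1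
      show H x * H y = H y * H x
      rw [show H x = h x from rfl, show H y = h y from rfl] at *
      calc h x * h y = h x * h y * (h x)⁻¹ * h x := by group
        _ = h y * h x := by rw [h1]⟩⟩
    haveI : Group.IsNilpotent H.range := CfsgLib.Components.isNilpotent_of_isMulCommutative _
    have hH1 := eq_one_of_solvable_range H inferInstance
    refine MonoidHom.ext fun x => ?_
    rw [hh, show h x = H x from rfl, hH1, MonoidHom.one_apply, map_one, MonoidHom.one_apply]

/-- A perfect group `X = [X, α]` that centralises the fixed points of a compatible coprime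
automorphism of prime order acts trivially. -/
theorem eq_one_of_fixed_centralised [Group.IsPerfect X] (φ : X →* MulAut G) (α : MulAut X)
    (β : MulAut G) {r : ℕ} (hr : r.Prime) (hα : α ^ r = 1) (hβ : β ^ r = 1)
    (hφ : ∀ x, φ (α x) = β * φ x * β⁻¹) (hgen : commSub α (⊤ : Subgroup X) = ⊤)
    (hcX : ¬ r ∣ Nat.card X) (hcG : ¬ r ∣ Nat.card G)
    (hcen : ∀ x g, β g = g → φ x g = g) : φ = 1 :=
  eq_one_aux (Nat.card G) φ α β le_rfl hr hα hβ hφ hgen hcX hcG hcen

end Cfsg.Agent.FixedFree.Centralised
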