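import Cfsg.Agent.Lib.Coprime.FixedFree.Centralised.Semisimple

/-!
# A quasisimple subgroup with commuting conjugates lies in one component or is a component
-/

set_option autoImplicit false
set_option linter.style.haveILetI false
set_option linter.unusedSectionVars false

universe u

namespace Cfsg.Agent.FixedFree.Centralised

open Subgroup CfsgLib.Components
open scoped commutatorElement

variable {G : Type u} [Group G] [Finite G] {β : MulAut G} {K : Subgroup G} {r : ℕ}

/-- `K` covers the action on each component of a moved orbit that it does not centralise. -/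
theorem exists_inv_mul_mem_centralizer (hr : r.Prime) (hβ : β ^ r = 1) (hG : Cfsg.layer G = ⊤)
    (hq : Cfsg.IsQuasisimple K) (horb : CommutingOrbit β K) {M : Subgroup G}
    (hM : Cfsg.IsComponent M) (hKM : ¬ K ≤ centralizer (M : Set G))
    (hmove : M.map β.toMonoidHom ≠ M) :
    (∀ x : G, ∃ k ∈ K, k⁻¹ * x ∈ centralizer (M : Set G)) ∧
      ∀ d ∈ fixedSub β, d ∈ normalizer (K : Set G) := by
  haveI := hq.1
  haveI := normal_of_component hG hM
  set C := centralizer (M : Set G) with hC
  set q := QuotientGroup.mk' C with hq'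
  set A := K.map q with hA
  have hA1 : A ≠ ⊥ := fun h => hKM fun x hx => (QuotientGroup.eq_one_iff x).mp
    (mem_bot.mp (h ▸ mem_map_of_mem q hx))
  have hconj : ∀ s : G ⧸ C, A ≤ normalizer (A.map (MulAut.conj s).toMonoidHom : Set (G ⧸ C)) ∧
      A.map (MulAut.conj s).toMonoidHom ≤ normalizer (A : Set (G ⧸ C)) := by
    intro s
    obtain ⟨x, rfl⟩ := QuotientGroup.mk'_surjective C s
    obtain ⟨d, hd, hdx, -⟩ := exists_fixed_image hG hr hβ hM hmove x
    have hqx : q x = q d := (QuotientGroup.eq.mpr hdx).symm
    have hmap : A.map (MulAut.conj (q d)).toMonoidHom =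
        (K.map (MulAut.conj d).toMonoidHom).map q := by
      rw [hA, Subgroup.map_map, Subgroup.map_map]
      refine congrArg (fun f => Subgroup.map f K) (MonoidHom.ext fun y => ?_)
      show q d * q y * (q d)⁻¹ = q (d * y * d⁻¹)
      rw [map_mul, map_mul, map_inv]
    rw [← hq', hqx, hmap]
    by_cases hfix : K.map (MulAut.conj d).toMonoidHom = K
    · rw [hfix]
      exact ⟨Subgroup.le_normalizer, Subgroup.le_normalizer⟩
    · have hm : member β K (⟨d, hd⟩, 0) = K.map (MulAut.conj d).toMonoidHom := by
        rw [member, pow_zero, mul_one]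
      have h := horb (⟨d, hd⟩, 0) (hm ▸ hfix)
      rw [hm] at h
      have h2 : ⁅A, (K.map (MulAut.conj d).toMonoidHom).map q⁆ = ⊥ := by
        rw [hA, ← map_commutator, h, Subgroup.map_bot]
      exact ⟨(commutator_eq_bot_iff_le_centralizer.mp h2).trans (centralizer_le_normalizer _),
        (commutator_eq_bot_iff_le_centralizer.mp (by rw [commutator_comm, h2])).trans
          (centralizer_le_normalizer _)⟩
  have hAtop : A = ⊤ := by
    have hN : normalClosure (A : Set (G ⧸ C)) = ⊤ := by
      refine (normal_eq_bot_or_top hG hM _).resolve_left fun h => hA1 ?_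
      exact le_bot_iff.mp (le_normalClosure.trans h.le)
    have hle : normalClosure (A : Set (G ⧸ C)) ≤ normalizer (A : Set (G ⧸ C)) := by
      rw [normalClosure, closure_le]
      intro y hy
      rw [Group.mem_conjugatesOfSet_iff] at hy
      obtain ⟨z, hz, hzy⟩ := hy
      obtain ⟨s, rfl⟩ := isConj_iff.mp hzy
      exact (hconj s).2 (mem_map_of_mem _ hz)
    haveI : A.Normal := normalizer_eq_top_iff.mp (top_le_iff.mp (hN ▸ hle))
    exact (normal_eq_bot_or_top hG hM A).resolve_left hA1
  refine ⟨fun x => ?_, fun d hd => ?_⟩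
  · obtain ⟨k, hk, e⟩ := (hAtop ▸ mem_top (q x) : q x ∈ A)
    exact ⟨k, hk, QuotientGroup.eq.mp e⟩
  · rw [CfsgLib.Components.mem_normalizer_iff_map_conj_eq]
    by_contra hne
    have hm : member β K (⟨d, hd⟩, 0) = K.map (MulAut.conj d).toMonoidHom := by
      rw [member, pow_zero, mul_one]
    have h := horb (⟨d, hd⟩, 0) (hm ▸ hne)
    rw [hm] at h
    refine hKM (le_of_commute_quotient fun a ha b hb => ?_)
    obtain ⟨k, hk, e⟩ := (hAtop ▸ mem_top ((q d)⁻¹ * q b * q d) : _ ∈ A)
    have h1 := commutatorElement_eq_one_iff_commute.mp (mem_bot.mp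
      (h ▸ commutator_mem_commutator ha (mem_map_of_mem (MulAut.conj d).toMonoidHom hk)))
    have h2 := h1.map q
    rwa [show q ((MulAut.conj d).toMonoidHom k) = q b by
      show q (d * k * d⁻¹) = q b
      rw [map_mul, map_mul, map_inv, e]
      group] at h2

/-- The semisimple case. -/
theorem component_or_le_stable_component (hr : r.Prime) (hβ : β ^ r = 1)
    (hcop : ¬ r ∣ Nat.card G) (hG : Cfsg.layer G = ⊤) (hq : Cfsg.IsQuasisimple K)
    (horb : CommutingOrbit β K) (hK : ¬ K ≤ fixedSub β) :
    Cfsg.IsComponent K ∨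
      ∃ L : Subgroup G, Cfsg.IsComponent L ∧ L.map β.toMonoidHom = L ∧ K ≤ L := by
  haveI := hq.1
  obtain ⟨L, hL, hKL, hJ⟩ := exists_orbit hr hβ hcop hG hq horb hK
  by_cases hmove : L.map β.toMonoidHom = L
  · refine Or.inr ⟨L, hL, hmove, le_component_of_centralizes hG hL fun M hM hne => ?_⟩
    by_contra hKM
    obtain ⟨i, hi⟩ := hJ M hM hKM
    refine hne (hi ▸ ?_)
    clear hi
    induction i with
    | zero => rw [pow_zero]; exact L.map_id
    | succ i ih => rw [pow_succ', ← map_map_aut, ih, hmove]
  have horbmove : ∀ M, InOrbit β L M → M.map β.toMonoidHom ≠ M := by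
    rintro _ ⟨i, rfl⟩ h
    apply hmove
    rw [map_map_aut, ← pow_succ', pow_succ] at h
    refine Subgroup.map_injective (f := (β ^ i).toMonoidHom) (β ^ i).injective ?_
    rw [map_map_aut]
    exact h
  obtain ⟨hfull, hnorm⟩ := exists_inv_mul_mem_centralizer hr hβ hG hq horb hL hKL hmove
  by_cases hKβ : K.map β.toMonoidHom = K
  · -- every displacement is central, so `K` would be fixed
    have hKpow : ∀ i : ℕ, K.map (β ^ i).toMonoidHom = K := fun i => by
      induction i with
      | zero => rw [pow_zero]; exact K.map_id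
      | succ i ih => rw [pow_succ', ← map_map_aut, ih, hKβ]
    have hin : ∀ M, InOrbit β L M → ¬ K ≤ centralizer (M : Set G) := by
      rintro _ ⟨i, rfl⟩ h
      refine hKL fun k hk => mem_centralizer_iff.mpr fun l hl => (β ^ i).injective ?_
      rw [map_mul, map_mul]
      exact mem_centralizer_iff.mp (h (hKpow i ▸ mem_map_of_mem (β ^ i).toMonoidHom hk)) _
        (mem_map_of_mem (β ^ i).toMonoidHom hl)
    haveI := normal_of_component hG hL
    have hz : ∀ k ∈ K, k⁻¹ * β k ∈ center G := by
      intro k hk
      obtain ⟨d, hd, hdk, hout⟩ := exists_fixed_image hG hr hβ hL hmove k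
      set z := d⁻¹ * k with hzdef
      have hzn : z ∈ normalizer (K : Set G) :=
        mul_mem (inv_mem (hnorm d hd)) (Subgroup.le_normalizer hk)
      haveI : ((centralizer (L : Set G) ⊓ K).subgroupOf K).Normal :=
        (normal_subgroupOf_iff_le_normalizer inf_le_right).mpr
          ((le_inf (by rw [normalizer_eq_top]; exact le_top) Subgroup.le_normalizer).trans
            inf_normalizer_le_normalizer_inf)
      have hcen : (centralizer (L : Set G) ⊓ K).subgroupOf K ≤ center K :=
        (IsQuasisimple.normal_le_center_or_top hq _).resolve_right fun h =>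
          hKL ((subgroupOf_eq_top.mp h).trans inf_le_left)
      have h3 : ⁅zpowers z, K⁆ = ⊥ := by
        refine commutator_eq_bot_of_perfect hq.1 ?_
        rw [commutator_eq_bot_iff_le_centralizer]
        intro y hy
        have hyK : y ∈ K := commutator_le_right_of_le_normalizer (zpowers_le.mpr hzn) hy
        have hyC : y ∈ centralizer (L : Set G) := commutator_le_left_of_le_normalizer
          (by rw [normalizer_eq_top]; exact le_top :
            K ≤ normalizer (centralizer (L : Set G) : Set G))
          (commutator_mono (zpowers_le.mpr hdk) le_rfl hy)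
        rw [mem_centralizer_iff]
        intro a ha
        exact congrArg Subtype.val
          (mem_center_iff.mp (hcen (show (⟨y, hyK⟩ : K) ∈ (centralizer (L : Set G) ⊓ K).subgroupOf K
            from ⟨hyC, hyK⟩)) ⟨a, ha⟩)
      have hzK : ∀ a ∈ K, Commute z a := fun a ha => commutatorElement_eq_one_iff_commute.mp
        (mem_bot.mp (h3 ▸ commutator_mem_commutator (mem_zpowers z) ha))
      have hzc : z ∈ center G := by
        refine mem_center_of_components hG fun M hM => ?_
        by_cases hMo : InOrbit β L M
        · haveI := normal_of_component hG hM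
          obtain ⟨hfM, -⟩ := exists_inv_mul_mem_centralizer hr hβ hG hq horb hM (hin M hMo)
            (horbmove M hMo)
          set C := centralizer (M : Set G) with hC
          have hzq : QuotientGroup.mk' C z ∈ center (G ⧸ C) := by
            rw [mem_center_iff]
            intro s
            obtain ⟨x, rfl⟩ := QuotientGroup.mk'_surjective C s
            obtain ⟨a, ha, hax⟩ := hfM x
            rw [show QuotientGroup.mk' C x = QuotientGroup.mk' C a from
              (QuotientGroup.eq.mpr hax).symm]
            exact ((hzK a ha).map (QuotientGroup.mk' C)).eq.symm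
          rcases normal_eq_bot_or_top hG hM (center (G ⧸ C)) with h | h
          · exact (QuotientGroup.eq_one_iff z).mp (mem_bot.mp (h ▸ hzq))
          · refine absurd (le_of_commute_quotient fun a _ b _ => ?_) (hin M hMo)
            exact (mem_center_iff.mp (h ▸ mem_top (QuotientGroup.mk' C b)) _)
        · refine mul_mem (inv_mem (hout M hM hMo)) ?_
          by_contra hkM
          exact hMo (hJ M hM fun h => hkM (h hk))
      have hβz : β z ∈ center G := stable_of_characteristic (center G) β z hzc
      have e : k⁻¹ * β k = z⁻¹ * β z := by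
        rw [hzdef, map_mul, map_inv, mem_fixedSub.mp hd]
        group
      rw [e]
      exact mul_mem (inv_mem hzc) hβz
    exact absurd (le_fixedSub_of_central
      (fun k hk l _ => ((mem_center_iff.mp (hz k hk)) l).symm)
      (fun k hk l _ => ((mem_center_iff.mp (hz k hk)) _).symm)) hK
  -- `K` moves one component only
  left
  have hpowK : ∀ i : ℕ, ¬ r ∣ i → K.map (β ^ i).toMonoidHom ≠ K :=
    fun i hi => map_pow_ne hr hβ hKβ hi
  have honly : ∀ M : Subgroup G, Cfsg.IsComponent M → M ≠ L → K ≤ centralizer (M : Set G) := by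
    intro M hM hne
    by_contra hKM
    obtain ⟨i, rfl⟩ := hJ M hM hKM
    have hi : ¬ r ∣ i := by
      rintro ⟨j, rfl⟩
      rw [pow_mul, hβ, one_pow] at hne
      exact hne L.map_id
    have hm : member β K (1, i) = K.map (β ^ i).toMonoidHom := by
      rw [member, coe_one, map_one, one_mul]
    have hcomm := horb (1, i) (hm ▸ hpowK i hi)
    rw [hm] at hcomm
    haveI := normal_of_component hG hM
    refine hKM (le_of_commute_quotient fun a ha b _ => ?_)
    obtain ⟨y, rfl⟩ := (β ^ i).surjective b
    obtain ⟨k, hk, hky⟩ := hfull y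
    have hmem : (β ^ i) k⁻¹ * (β ^ i) y ∈
        centralizer ((L.map (β ^ i).toMonoidHom : Subgroup G) : Set G) := by
      rw [← map_mul, mem_centralizer_iff]
      rintro _ ⟨l, hl, rfl⟩
      show (β ^ i) l * (β ^ i) (k⁻¹ * y) = (β ^ i) (k⁻¹ * y) * (β ^ i) l
      rw [← map_mul, ← map_mul, mem_centralizer_iff.mp hky l hl]
    rw [map_inv] at hmem
    rw [show QuotientGroup.mk' _ ((β ^ i) y) = QuotientGroup.mk' _ ((β ^ i) k) from
      (QuotientGroup.eq.mpr hmem).symm]
    exact (commutatorElement_eq_one_iff_commute.mp (mem_bot.mp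
      (hcomm ▸ commutator_mem_commutator ha (mem_map_of_mem (β ^ i).toMonoidHom hk)))).map _
  have hle : K ≤ L := le_component_of_centralizes hG hL honly
  haveI : Group.IsPerfect L := hL.2.1
  have htop : K.subgroupOf L = ⊤ := by
    refine eq_top_of_sup_center_of_perfect (top_le_iff.mp fun l _ => ?_)
    obtain ⟨k, hk, hkl⟩ := hfull l
    refine mem_sup_of_normal_right.mpr ⟨⟨k, hle hk⟩, hk, ⟨k⁻¹ * l, mul_mem (inv_mem (hle hk)) l.2⟩,
      ?_, Subtype.ext (by simp)⟩
    rw [mem_center_iff]
    intro m
    exact Subtype.ext (mem_centralizer_iff.mp hkl m m.2)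
  rwa [le_antisymm hle (subgroupOf_eq_top.mp htop)]

end Cfsg.Agent.FixedFree.Centralised
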