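import Cfsg.Agent.Lib.Coprime.FixedFree.Centralised.Quasi

/-!
# A quasisimple subgroup with commuting conjugates: the general case

Such a subgroup lies in the layer, so the semisimple case applies.
-/

set_option autoImplicit false
set_option linter.style.haveILetI false
set_option linter.unusedSectionVars false

universe u

namespace Cfsg.Agent.FixedFree.Centralised

open Subgroup CfsgLib.Components
open scoped commutatorElement

variable {G : Type u} [Group G] [Finite G]

theorem layer_layer_eq_top : Cfsg.layer ↥(Cfsg.layer G) = ⊤ := by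
  refine top_le_iff.mp ?_
  rw [← map_le_map_iff_of_injective (Cfsg.layer G).subtype_injective, ← MonoidHom.range_eq_map,
    range_subtype, layer_le_iff]
  intro L hL
  rw [← map_subgroupOf_eq_of_le (IsComponent.le_layer hL)]
  exact map_mono (IsComponent.le_layer (IsComponent.subgroupOf hL (IsComponent.le_layer hL)))

variable {β : MulAut G} {K : Subgroup G} {r : ℕ}

/-- The subgroup `K` lies in the layer. -/
theorem le_layer_of_commutingOrbit (hr : r.Prime) (hβ : β ^ r = 1) (hcop : ¬ r ∣ Nat.card G)
    (hq : Cfsg.IsQuasisimple K) (horb : CommutingOrbit β K) (hK : ¬ K ≤ fixedSub β) :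
    K ≤ Cfsg.layer G := by
  set H := ⨆ p : fixedSub β × ℕ, member β K p with hH
  have hmap : ∀ (p : fixedSub β × ℕ) (d : fixedSub β) (j : ℕ),
      (member β K p).map (MulAut.conj (d : G) * β ^ j).toMonoidHom ≤ H := fun p d j => by
    rw [member_map]
    exact le_iSup (fun p => member β K p) _
  have hstep : ∀ p, (member β K p).map β.toMonoidHom = member β K (p.1, 1 + p.2) := fun p => by
    have := member_map K p 1 1
    rwa [one_mul, coe_one, map_one, one_mul, pow_one] at this
  have hHs : Stable β H := by
    intro x hx
    have : H.map β.toMonoidHom ≤ H := by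
      rw [hH, Subgroup.map_iSup]
      exact iSup_le fun p => hstep p ▸ le_iSup (fun p => member β K p) _
    exact this (mem_map_of_mem _ hx)
  have hfix : fixedSub β ≤ normalizer (H : Set G) := by
    intro d hd
    rw [CfsgLib.Components.mem_normalizer_iff_map_conj_eq]
    refine Subgroup.eq_of_le_of_card_ge ?_
      (le_of_eq (card_map_of_injective (K := H) (MulAut.conj d).injective).symm)
    conv_lhs => rw [hH, Subgroup.map_iSup]
    refine iSup_le fun p => ?_
    have h := hmap p ⟨d, hd⟩ 0
    rwa [pow_zero, mul_one] at h
  have hHg : commSub β H = H := by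
    refine le_antisymm (commSub_le hHs) (iSup_le fun p => ?_)
    refine le_commSub_of_quasisimple (member_quasisimple hq p) (le_iSup (fun p => member β K p) p)
      (member_not_fixed hK p) ?_
    rw [hstep]
    by_cases h : member β K (p.1, 1 + p.2) = member β K p
    · exact Or.inl h
    · exact Or.inr (horb.pair hβ hr.pos _ _ (Ne.symm h))
  have hKH : K ≤ H := by
    have h := le_iSup (fun p => member β K p) (1, 0)
    rwa [member_zero] at h
  have hn : H ≤ normalizer (K : Set G) := iSup_le fun p => by
    by_cases h : member β K p = K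
    · exact h.le.trans Subgroup.le_normalizer
    · have h' := horb p h
      rw [commutator_comm] at h'
      exact (commutator_eq_bot_iff_le_centralizer.mp h').trans (centralizer_le_normalizer _)
  have hcomp : Cfsg.IsComponent (K.subgroupOf H) :=
    ⟨((normal_subgroupOf_iff_le_normalizer hKH).mpr hn).isSubnormal,
      IsQuasisimple.of_mulEquiv hq (subgroupOfEquivOfLe hKH).symm⟩
  have h := layer_le_of_commSub β hr hβ hcop H hHs hfix hHg
  refine le_trans ?_ h
  rw [← map_subgroupOf_eq_of_le hKH]
  exact map_mono (IsComponent.le_layer hcomp)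

/-- A quasisimple subgroup not fixed by `β` that commutes with each of its other images under
`β` and its fixed points is a component or lies in a `β`-stable component. -/
theorem component_or_le_stable (hr : r.Prime) (hβ : β ^ r = 1) (hcop : ¬ r ∣ Nat.card G)
    (hq : Cfsg.IsQuasisimple K) (horb : CommutingOrbit β K) (hK : ¬ K ≤ fixedSub β) :
    Cfsg.IsComponent K ∨
      ∃ L : Subgroup G, Cfsg.IsComponent L ∧ L.map β.toMonoidHom = L ∧ K ≤ L := by
  have hKE := le_layer_of_commutingOrbit hr hβ hcop hq horb hK
  set E := Cfsg.layer G with hE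
  have hEs : Stable β E := stable_of_characteristic E β
  set βE := resAut β E hEs with hβE
  set KE := K.subgroupOf E with hKEdef
  have hmapK : KE.map E.subtype = K := map_subgroupOf_eq_of_le hKE
  have hd : ∀ d : fixedSub βE, ((d : E) : G) ∈ fixedSub β := fun d => by
    rw [mem_fixedSub, ← resAut_apply β E hEs, ← hβE, mem_fixedSub.mp d.2]
  have hmem : ∀ p : fixedSub βE × ℕ,
      (member βE KE p).map E.subtype = member β K (⟨_, hd p.1⟩, p.2) := by
    intro p
    rw [member, member, Subgroup.map_map]
    conv_rhs => rw [← hmapK, Subgroup.map_map]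
    refine congrArg (fun f => Subgroup.map f KE) (MonoidHom.ext fun x => ?_)
    simp only [MonoidHom.comp_apply, coe_subtype, MulEquiv.coe_toMonoidHom, MulAut.mul_apply,
      MulAut.conj_apply, coe_mul, coe_inv, hβE, resAut_pow]
  have horbE : CommutingOrbit βE KE := by
    intro p hne
    refine Subgroup.map_injective E.subtype_injective ?_
    rw [map_commutator, hmem, hmapK, Subgroup.map_bot]
    refine horb _ fun e => hne (Subgroup.map_injective E.subtype_injective ?_)
    rw [hmem, hmapK, e]
  have hKEfix : ¬ KE ≤ fixedSub βE := by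
    intro h
    refine hK fun k hk => ?_
    have h1 := mem_fixedSub.mp (h (show (⟨k, hKE hk⟩ : E) ∈ KE from hk))
    rw [mem_fixedSub, show β k = ((βE ⟨k, hKE hk⟩ : E) : G) from rfl, h1]
  have hEsub : E.IsSubnormal := Normal.isSubnormal inferInstance
  rcases component_or_le_stable_component hr (resAut_pow_eq_one hEs hβ)
      (fun h => hcop (h.trans (card_subgroup_dvd_card E))) layer_layer_eq_top
      (IsQuasisimple.of_mulEquiv hq (subgroupOfEquivOfLe hKE).symm) horbE hKEfix with
    h | ⟨L, hL, hLβ, hKL⟩
  · exact Or.inl ((isComponent_subgroupOf_iff hEsub hKE).mp h)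
  · refine Or.inr ⟨L.map E.subtype, (isComponent_map_subtype_iff hEsub L).mp hL, ?_,
      hmapK ▸ map_mono hKL⟩
    conv_rhs => rw [← hLβ, Subgroup.map_map]
    rw [Subgroup.map_map]
    rfl

end Cfsg.Agent.FixedFree.Centralised
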