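import Cfsg.Agent.Lib.Coprime.FixedFree.Centralised.Layer

/-!
# A quasisimple subgroup with commuting conjugates: the semisimple case

Let `G` be semisimple, `β` a coprime automorphism of prime order and `K` a quasisimple subgroup,
not fixed by `β`, commuting with each of its distinct images under `β` and under conjugation by
fixed points of `β`. Then `K` is a component or lies in a component stable under `β`.
-/

set_option autoImplicit false
set_option linter.style.haveILetI false
set_option linter.unusedSectionVars false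

universe u

namespace Cfsg.Agent.FixedFree.Centralised

open Subgroup CfsgLib.Components
open scoped commutatorElement

variable {G : Type u} [Group G]

/-- A quasisimple subgroup commuting with each of its other conjugates is a component. -/
theorem isComponent_of_commuting {K : Subgroup G} (hq : Cfsg.IsQuasisimple K)
    (h : ∀ g : G, K.map (MulAut.conj g).toMonoidHom ≠ K →
      ⁅K, K.map (MulAut.conj g).toMonoidHom⁆ = ⊥) : Cfsg.IsComponent K := by
  refine ⟨Subgroup.IsSubnormal.step K (normalClosure (K : Set G)) le_normalClosure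
    (Normal.isSubnormal inferInstance) ?_, hq⟩
  rw [normal_subgroupOf_iff_le_normalizer le_normalClosure, normalClosure, closure_le]
  intro y hy
  rw [Group.mem_conjugatesOfSet_iff] at hy
  obtain ⟨x, hx, hxy⟩ := hy
  obtain ⟨g, rfl⟩ := isConj_iff.mp hxy
  by_cases hg : K.map (MulAut.conj g).toMonoidHom = K
  · exact Subgroup.le_normalizer (hg ▸ mem_map_of_mem _ hx : g * x * g⁻¹ ∈ K)
  · exact centralizer_le_normalizer _ (mem_centralizer_iff.mpr fun k hk =>
      commutatorElement_eq_one_iff_commute.mp (mem_bot.mp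
        (h g hg ▸ commutator_mem_commutator hk (mem_map_of_mem _ hx))))

/-- If the displacement of a perfect subgroup by `β` is central, the subgroup is fixed. -/
theorem le_fixedSub_of_central {K : Subgroup G} [Group.IsPerfect K] {β : MulAut G}
    (h1 : ∀ k ∈ K, ∀ l ∈ K, Commute (k⁻¹ * β k) l)
    (h2 : ∀ k ∈ K, ∀ l ∈ K, Commute (k⁻¹ * β k) (l⁻¹ * β l)) : K ≤ fixedSub β := by
  let f : K →* G := MonoidHom.mk' (fun k => (k : G)⁻¹ * β k) fun k l => by
    show ((k : G) * l)⁻¹ * β ((k : G) * l) = _
    rw [map_mul]
    calc ((k : G) * l)⁻¹ * (β k * β l) = (l : G)⁻¹ * ((k : G)⁻¹ * β k) * β l := by group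
      _ = (k : G)⁻¹ * β k * (l : G)⁻¹ * β l := by rw [((h1 k k.2 l l.2).inv_right).eq]
      _ = _ := by group
  haveI : IsMulCommutative f.range := ⟨⟨by
    rintro ⟨_, k, rfl⟩ ⟨_, l, rfl⟩
    exact Subtype.ext (h2 k k.2 l l.2).eq⟩⟩
  haveI := isNilpotent_of_isMulCommutative f.range
  have hf := eq_one_of_solvable_range f inferInstance
  intro k hk
  rw [mem_fixedSub]
  exact (inv_mul_eq_one.mp (DFunLike.congr_fun hf ⟨k, hk⟩)).symm

variable [Finite G]

/-- The fixed points act through automorphisms commuting with `β`. -/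
theorem apply_conj_pow {β : MulAut G} {d : G} (hd : d ∈ fixedSub β) (i : ℕ) :
    (β ^ i) * MulAut.conj d = MulAut.conj d * β ^ i := by
  refine MulEquiv.ext fun x => ?_
  simp only [MulAut.mul_apply, MulAut.conj_apply, map_mul, map_inv,
    fixedSub_pow (mem_fixedSub.mp hd)]

/-- The members of the orbit of `K`. -/
def member (β : MulAut G) (K : Subgroup G) (p : fixedSub β × ℕ) : Subgroup G :=
  K.map (MulAut.conj (p.1 : G) * β ^ p.2).toMonoidHom

/-- The hypothesis on `K`. -/
def CommutingOrbit (β : MulAut G) (K : Subgroup G) : Prop :=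
  ∀ p : fixedSub β × ℕ, member β K p ≠ K → ⁅K, member β K p⁆ = ⊥

omit [Finite G] in
theorem member_zero (β : MulAut G) (K : Subgroup G) : member β K (1, 0) = K := by
  rw [member]
  convert K.map_id using 2
  ext x
  simp

omit [Finite G] in
theorem map_map_aut (K : Subgroup G) (e f : MulAut G) :
    (K.map e.toMonoidHom).map f.toMonoidHom = K.map (f * e).toMonoidHom := by
  rw [Subgroup.map_map]
  rfl

theorem member_map {β : MulAut G} (K : Subgroup G) (p : fixedSub β × ℕ) (d : fixedSub β) (j : ℕ) :
    (member β K p).map (MulAut.conj (d : G) * β ^ j).toMonoidHom =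
      member β K (d * p.1, j + p.2) := by
  rw [member, member, map_map_aut]
  congr 2
  rw [mul_assoc, ← mul_assoc (β ^ j), apply_conj_pow p.1.2, coe_mul, map_mul, pow_add]
  group

theorem CommutingOrbit.pair {β : MulAut G} {K : Subgroup G} {r : ℕ} (hβ : β ^ r = 1) (hr : 0 < r)
    (h : CommutingOrbit β K) (p q : fixedSub β × ℕ) (hne : member β K p ≠ member β K q) :
    ⁅member β K p, member β K q⁆ = ⊥ := by
  set s : fixedSub β × ℕ := (p.1⁻¹ * q.1, (r - 1) * p.2 + q.2) with hs
  have hq : member β K q = (member β K s).map (MulAut.conj (p.1 : G) * β ^ p.2).toMonoidHom := by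
    rw [member_map, member, member, hs]
    dsimp only
    rw [mul_inv_cancel_left, ← add_assoc, show p.2 + (r - 1) * p.2 = r * p.2 by
      conv_rhs => rw [show r = (r - 1) + 1 by omega]
      ring, pow_add, pow_mul, hβ, one_pow, one_mul]
  rw [hq] at hne ⊢
  rw [show member β K p = K.map (MulAut.conj (p.1 : G) * β ^ p.2).toMonoidHom from rfl] at hne ⊢
  rw [← map_commutator, h s (fun e => hne (by rw [e])), Subgroup.map_bot]

omit [Finite G] in
theorem member_quasisimple {β : MulAut G} {K : Subgroup G} (hq : Cfsg.IsQuasisimple K)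
    (p : fixedSub β × ℕ) : Cfsg.IsQuasisimple (member β K p) :=
  IsQuasisimple.of_mulEquiv hq ((MulAut.conj (p.1 : G) * β ^ p.2).subgroupMap K)

theorem member_not_fixed {β : MulAut G} {K : Subgroup G} (hK : ¬ K ≤ fixedSub β)
    (p : fixedSub β × ℕ) : ¬ member β K p ≤ fixedSub β := by
  refine fun h => hK fun k hk => ?_
  have h1 := mem_fixedSub.mp (h (mem_map_of_mem _ hk))
  simp only [MulEquiv.coe_toMonoidHom, MulAut.mul_apply, MulAut.conj_apply, map_mul, map_inv,
    mem_fixedSub.mp p.1.2, mul_left_inj, mul_right_inj] at h1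
  rw [← MulAut.mul_apply, ← pow_succ', pow_succ, MulAut.mul_apply] at h1
  exact mem_fixedSub.mpr ((β ^ p.2).injective h1)

/-- An unfixed quasisimple subgroup, stable or commuting with its image, lies in `[H, β]`. -/
theorem le_commSub_of_quasisimple {β : MulAut G} {K H : Subgroup G} (hq : Cfsg.IsQuasisimple K)
    (hKH : K ≤ H) (hK : ¬ K ≤ fixedSub β)
    (h : K.map β.toMonoidHom = K ∨ ⁅K, K.map β.toMonoidHom⁆ = ⊥) : K ≤ commSub β H := by
  haveI := hq.1
  rcases h with h | h
  · have hs : Stable β K := fun k hk => h ▸ mem_map_of_mem _ hk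
    haveI : ((commSub β K).subgroupOf K).Normal :=
      (normal_subgroupOf_iff_le_normalizer (commSub_le hs)).mpr (le_normalizer_commSub β K)
    rcases IsQuasisimple.normal_le_center_or_top hq ((commSub β K).subgroupOf K) with hc | hc
    · refine absurd (le_fixedSub_of_central (fun k hk l hl => ?_) (fun k hk l hl => ?_)) hK
      · have h1 : k⁻¹ * β k ∈ K := mul_mem (inv_mem hk) (hs k hk)
        have := mem_center_iff.mp (hc (show (⟨_, h1⟩ : K) ∈ (commSub β K).subgroupOf K from
          inv_mul_apply_mem_commSub β hk)) ⟨l, hl⟩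
        exact (congrArg Subtype.val this).symm
      · have h1 : k⁻¹ * β k ∈ K := mul_mem (inv_mem hk) (hs k hk)
        have := mem_center_iff.mp (hc (show (⟨_, h1⟩ : K) ∈ (commSub β K).subgroupOf K from
          inv_mul_apply_mem_commSub β hk)) ⟨_, mul_mem (inv_mem hl) (hs l hl)⟩
        exact (congrArg Subtype.val this).symm
    · exact (subgroupOf_eq_top.mp hc).trans (commSub_mono hKH)
  · conv_lhs => rw [← Subgroup.isPerfect_iff.mp hq.1]
    rw [commutator_le]
    intro a ha b hb
    have hx : a * β a⁻¹ ∈ commSub β H := by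
      simpa using inv_mul_apply_mem_commSub β (hKH (inv_mem ha))
    have hc : Commute (β a⁻¹) b := commutatorElement_eq_one_iff_commute.mp (mem_bot.mp
      (h ▸ commutator_mem_commutator hb (mem_map_of_mem _ (inv_mem ha)))) |>.symm
    have hn := (mem_normalizer_iff.mp (le_normalizer_commSub β H (hKH hb)) _).mp (inv_mem hx)
    have e : ⁅a, b⁆ = a * β a⁻¹ * (b * (a * β a⁻¹)⁻¹ * b⁻¹) := by
      calc ⁅a, b⁆ = a * (b * β a⁻¹) * (β a⁻¹)⁻¹ * a⁻¹ * b⁻¹ := by
            rw [commutatorElement_def]; group
        _ = a * (β a⁻¹ * b) * (β a⁻¹)⁻¹ * a⁻¹ * b⁻¹ := by rw [hc.eq]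
        _ = _ := by group
    rw [e]
    exact mul_mem hx hn

/-- In a semisimple group, the elements centralising every component are central. -/
theorem mem_center_of_components (hG : Cfsg.layer G = ⊤) {z : G}
    (h : ∀ M : Subgroup G, Cfsg.IsComponent M → z ∈ centralizer (M : Set G)) : z ∈ center G := by
  rw [mem_center_iff]
  intro g
  have : Cfsg.layer G ≤ centralizer {z} := layer_le_iff.mpr fun M hM x hx =>
    mem_centralizer_singleton_iff.mpr (mem_centralizer_iff.mp (h M hM) x hx)
  exact mem_centralizer_singleton_iff.mp (this (hG ▸ mem_top g))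

theorem normal_of_component (hG : Cfsg.layer G = ⊤) {L : Subgroup G} (hL : Cfsg.IsComponent L) :
    L.Normal :=
  normalizer_eq_top_iff.mp (top_le_iff.mp (hG ▸ layer_le_normalizer hL))

theorem sup_centralizer_component (hG : Cfsg.layer G = ⊤) {L : Subgroup G}
    (hL : Cfsg.IsComponent L) : L ⊔ centralizer (L : Set G) = ⊤ := by
  rw [← top_le_iff, ← hG, layer_le_iff]
  intro M hM
  by_cases h : M = L
  · exact h ▸ le_sup_left
  · exact le_sup_of_le_right (IsComponent.le_centralizer_of_ne hM hL h)

/-- A perfect subgroup centralising every component but `L` lies in `L`. -/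
theorem le_component_of_centralizes (hG : Cfsg.layer G = ⊤) {L K : Subgroup G}
    (hL : Cfsg.IsComponent L) [Group.IsPerfect K]
    (h : ∀ M : Subgroup G, Cfsg.IsComponent M → M ≠ L → K ≤ centralizer (M : Set G)) : K ≤ L := by
  haveI := normal_of_component hG hL
  have hle : K ≤ L ⊔ center G := by
    intro x hx
    obtain ⟨l, hl, c, hc, rfl⟩ := mem_sup_of_normal_left.mp
      (sup_centralizer_component hG hL ▸ mem_top x : x ∈ L ⊔ centralizer (L : Set G))
    refine mem_sup_of_normal_right.mpr ⟨l, hl, c, mem_center_of_components hG fun M hM => ?_, rfl⟩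
    by_cases hML : M = L
    · exact hML ▸ hc
    · have h1 := h M hM hML hx
      have h2 := IsComponent.le_centralizer_of_ne hL hM (Ne.symm hML) hl
      simpa using mul_mem (inv_mem h2) h1
  conv_lhs => rw [← Subgroup.isPerfect_iff.mp (inferInstance : Group.IsPerfect K)]
  refine (commutator_mono hle hle).trans ?_
  rw [commutator_sup_center]
  exact Subgroup.commutator_le_self L

/-- The quotient by the centraliser of a component has no proper nontrivial normal subgroup. -/
theorem normal_eq_bot_or_top (hG : Cfsg.layer G = ⊤) {L : Subgroup G} (hL : Cfsg.IsComponent L)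
    [(centralizer (L : Set G)).Normal] (N : Subgroup (G ⧸ centralizer (L : Set G))) [N.Normal] :
    N = ⊥ ∨ N = ⊤ := by
  set q := QuotientGroup.mk' (centralizer (L : Set G)) with hq
  rcases IsComponent.le_or_commutator_eq_bot_of_normal hL (N.comap q) with h | h
  · right
    rw [← map_comap_eq_self_of_surjective (QuotientGroup.mk'_surjective _) N, ← top_le_iff,
      ← map_top_of_surjective q (QuotientGroup.mk'_surjective _)]
    refine map_mono ?_
    rw [← sup_centralizer_component hG hL]
    refine sup_le h fun x hx => ?_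
    rw [mem_comap, show q x = 1 from (QuotientGroup.eq_one_iff x).mpr hx]
    exact one_mem _
  · left
    rw [← map_comap_eq_self_of_surjective (QuotientGroup.mk'_surjective _) N, Subgroup.map_eq_bot_iff,
      QuotientGroup.ker_mk']
    intro x hx
    rw [mem_centralizer_iff]
    intro l hl
    exact commutatorElement_eq_one_iff_commute.mp (mem_bot.mp
      (h ▸ commutator_mem_commutator hl hx))

/-- A perfect subgroup whose image in `G ⧸ C` is commutative lies in `C`. -/
theorem le_of_commute_quotient {C K : Subgroup G} [C.Normal] [Group.IsPerfect K]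
    (h : ∀ a ∈ K, ∀ b ∈ K,
      Commute (QuotientGroup.mk' C a) (QuotientGroup.mk' C b)) : K ≤ C := by
  conv_lhs => rw [← Subgroup.isPerfect_iff.mp (inferInstance : Group.IsPerfect K)]
  rw [commutator_le]
  intro a ha b hb
  rw [← QuotientGroup.eq_one_iff]
  show QuotientGroup.mk' C ⁅a, b⁆ = 1
  rw [map_commutatorElement, commutatorElement_eq_one_iff_commute]
  exact h a ha b hb

/-- The orbit of a component. -/
def InOrbit (β : MulAut G) (L M : Subgroup G) : Prop := ∃ i : ℕ, L.map (β ^ i).toMonoidHom = M

theorem InOrbit.map {β : MulAut G} {L M : Subgroup G} (h : InOrbit β L M) (j : ℕ) :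
    InOrbit β L (M.map (β ^ j).toMonoidHom) := by
  obtain ⟨i, rfl⟩ := h
  exact ⟨j + i, by rw [map_map_aut, pow_add]⟩

/-- A component moved by `β` is moved by every nontrivial power. -/
theorem map_pow_ne {β : MulAut G} {r : ℕ} (hr : r.Prime) (hβ : β ^ r = 1) {L : Subgroup G}
    (hL : L.map β.toMonoidHom ≠ L) {i : ℕ} (hi : ¬ r ∣ i) : L.map (β ^ i).toMonoidHom ≠ L := by
  intro h
  have hco : Nat.Coprime i (orderOf β) :=
    ((hr.coprime_iff_not_dvd.mpr hi).symm).coprime_dvd_right (orderOf_dvd_of_pow_eq_one hβ)
  obtain ⟨m, hm⟩ := exists_pow_eq_self_of_coprime hco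
  have : ∀ j : ℕ, L.map ((β ^ i) ^ j).toMonoidHom = L := by
    intro j
    induction j with
    | zero =>
      convert L.map_id using 2
      ext x
      simp
    | succ j ih => rw [pow_succ', ← map_map_aut, ih, h]
  exact hL (by simpa only [hm] using this m)

/-- Every element acts on a moved component as a fixed point centralising the components outside
the orbit. -/
theorem exists_fixed_image (hG : Cfsg.layer G = ⊤) {β : MulAut G} {r : ℕ} (hr : r.Prime)
    (hβ : β ^ r = 1) {L : Subgroup G} (hL : Cfsg.IsComponent L) (hmove : L.map β.toMonoidHom ≠ L)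
    (x : G) : ∃ d ∈ fixedSub β, d⁻¹ * x ∈ centralizer (L : Set G) ∧
      ∀ M : Subgroup G, Cfsg.IsComponent M → ¬ InOrbit β L M → d ∈ centralizer (M : Set G) := by
  haveI := normal_of_component hG hL
  obtain ⟨l, hl, c, hc, rfl⟩ := mem_sup_of_normal_left.mp
    (sup_centralizer_component hG hL ▸ mem_top x : x ∈ L ⊔ centralizer (L : Set G))
  obtain ⟨m, rfl⟩ : ∃ m, r = m + 1 := ⟨r - 1, by have := hr.pos; omega⟩
  set rest := ((List.range m).map fun i => (β ^ (i + 1)) l).prod with hrest
  have hrestC : rest ∈ centralizer (L : Set G) := by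
    refine list_prod_mem fun y hy => ?_
    obtain ⟨i, hi, rfl⟩ := List.mem_map.mp hy
    have hne : L.map (β ^ (i + 1)).toMonoidHom ≠ L := map_pow_ne hr hβ hmove fun hd => by
      have h1 := Nat.le_of_dvd (by omega) hd
      have h2 := List.mem_range.mp hi
      omega
    exact IsComponent.le_centralizer_of_ne (IsComponent.mapEquiv hL _) hL hne
      (mem_map_of_mem (β ^ (i + 1)).toMonoidHom hl)
  have hfix : β (l * rest) = l * rest := by
    have h1 : ((List.range (m + 1)).map fun i => (β ^ (i + 1)) l).prod = rest * l := by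
      rw [List.range_succ, List.map_append, List.prod_append, List.map_singleton,
        List.prod_singleton, hβ, hrest]
      rfl
    have h2 : ((List.range (m + 1)).map fun i => (β ^ (i + 1)) l).prod = β (l * rest) := by
      rw [List.range_succ_eq_map, List.map_cons, List.prod_cons, map_mul, hrest, map_list_prod,
        List.map_map, List.map_map]
      congr 1
      refine congrArg List.prod (List.map_congr_left fun i _ => ?_)
      show (β ^ (i + 1 + 1)) l = β ((β ^ (i + 1)) l)
      rw [pow_succ', MulAut.mul_apply]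
    rw [← h2, h1]
    exact (mem_centralizer_iff.mp hrestC l hl).symm
  refine ⟨l * rest, mem_fixedSub.mpr hfix, ?_, fun M hM hout => ?_⟩
  · rw [show (l * rest)⁻¹ * (l * c) = rest⁻¹ * c by group]
    exact mul_mem (inv_mem hrestC) hc
  · have hfac : ∀ i : ℕ, (β ^ i) l ∈ centralizer (M : Set G) := fun i =>
      IsComponent.le_centralizer_of_ne (IsComponent.mapEquiv hL (β ^ i)) hM
        (fun e => hout ⟨i, e⟩) (mem_map_of_mem (β ^ i).toMonoidHom hl)
    refine mul_mem ?_ (list_prod_mem fun y hy => ?_)
    · simpa using hfac 0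
    · obtain ⟨i, -, rfl⟩ := List.mem_map.mp hy
      exact hfac (i + 1)

variable {β : MulAut G} {K : Subgroup G} {r : ℕ}

/-- A member fixed modulo the centraliser of a component it moves is centralised. -/
theorem commute_of_mem_centralizer (hr : r.Prime) (hβ : β ^ r = 1) (hG : Cfsg.layer G = ⊤)
    (hq : Cfsg.IsQuasisimple K) (horb : CommutingOrbit β K) (p : fixedSub β × ℕ)
    {M : Subgroup G} (hM : Cfsg.IsComponent M) (hpM : ¬ member β K p ≤ centralizer (M : Set G))
    {d : G} (hd : d ∈ fixedSub β) (hdM : d ∈ centralizer (M : Set G)) :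
    ∀ k ∈ member β K p, Commute d k := by
  haveI := normal_of_component hG hM
  set C := centralizer (M : Set G) with hC
  set Q := member β K p with hQ
  have hQq : Cfsg.IsQuasisimple Q := member_quasisimple hq p
  haveI : Group.IsPerfect Q := hQq.1
  have hqd : ∀ k, QuotientGroup.mk' C (d * k * d⁻¹) = QuotientGroup.mk' C k := fun k => by
    rw [map_mul, map_mul, map_inv, show QuotientGroup.mk' C d = 1 from
      (QuotientGroup.eq_one_iff d).mpr hdM, one_mul, inv_one, mul_one]
  have hnorm : Q.map (MulAut.conj d).toMonoidHom = Q := by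
    by_contra hne
    have e : Q.map (MulAut.conj d).toMonoidHom = member β K (⟨d, hd⟩ * p.1, 0 + p.2) := by
      rw [← member_map, pow_zero, mul_one]
    rw [e] at hne
    have hcomm := horb.pair hβ hr.pos _ _ hne
    refine hpM (le_of_commute_quotient fun a ha b hb => ?_)
    have h1 : d * a * d⁻¹ ∈ member β K (⟨d, hd⟩ * p.1, 0 + p.2) := e ▸ mem_map_of_mem _ ha
    have h2 := commutatorElement_eq_one_iff_commute.mp
      (mem_bot.mp (hcomm ▸ commutator_mem_commutator h1 hb))
    simpa only [hqd] using h2.map (QuotientGroup.mk' C)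
  haveI hN : ((C ⊓ Q).subgroupOf Q).Normal :=
    (normal_subgroupOf_iff_le_normalizer inf_le_right).mpr
      ((le_inf (by rw [normalizer_eq_top]; exact le_top) Subgroup.le_normalizer).trans
        inf_normalizer_le_normalizer_inf)
  have hcen : (C ⊓ Q).subgroupOf Q ≤ center Q :=
    (IsQuasisimple.normal_le_center_or_top hQq _).resolve_right fun h =>
      hpM ((subgroupOf_eq_top.mp h).trans inf_le_left)
  have hdn : d ∈ normalizer (Q : Set G) :=
    CfsgLib.Components.mem_normalizer_iff_map_conj_eq.mpr hnorm
  have h3 : ⁅zpowers d, Q⁆ = ⊥ := by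
    refine commutator_eq_bot_of_perfect hQq.1 ?_
    rw [commutator_eq_bot_iff_le_centralizer]
    intro z hz
    have hzQ : z ∈ Q := commutator_le_right_of_le_normalizer (zpowers_le.mpr hdn) hz
    have hzC : z ∈ C := commutator_le_left_of_le_normalizer
      (by rw [normalizer_eq_top]; exact le_top : Q ≤ normalizer (C : Set G))
      (commutator_mono (zpowers_le.mpr hdM) le_rfl hz)
    rw [mem_centralizer_iff]
    intro k hk
    exact congrArg Subtype.val
      (mem_center_iff.mp (hcen (show (⟨z, hzQ⟩ : Q) ∈ (C ⊓ Q).subgroupOf Q from ⟨hzC, hzQ⟩))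
        ⟨k, hk⟩)
  intro k hk
  exact commutatorElement_eq_one_iff_commute.mp
    (mem_bot.mp (h3 ▸ commutator_mem_commutator (mem_zpowers d) hk))

/-- The components moved by `K` form part of one orbit. -/
theorem exists_orbit (hr : r.Prime) (hβ : β ^ r = 1) (hcop : ¬ r ∣ Nat.card G)
    (hG : Cfsg.layer G = ⊤) (hq : Cfsg.IsQuasisimple K) (horb : CommutingOrbit β K)
    (hK : ¬ K ≤ fixedSub β) : ∃ L : Subgroup G, Cfsg.IsComponent L ∧
      ¬ K ≤ centralizer (L : Set G) ∧ ∀ M : Subgroup G, Cfsg.IsComponent M →
        ¬ K ≤ centralizer (M : Set G) → InOrbit β L M := by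
  haveI := hq.1
  obtain ⟨L0, hL0, hKL0⟩ : ∃ L : Subgroup G, Cfsg.IsComponent L ∧ ¬ K ≤ centralizer (L : Set G) := by
    by_contra h
    push Not at h
    haveI : IsMulCommutative K := ⟨⟨fun a b => Subtype.ext
      ((mem_center_iff.mp (mem_center_of_components hG (z := (b : G))
        fun M hM => h M hM b.2) a))⟩⟩
    exact IsQuasisimple.not_isMulCommutative hq inferInstance
  by_contra hall
  push Not at hall
  have hall' : ∀ L : Subgroup G, Cfsg.IsComponent L → ∃ M : Subgroup G, Cfsg.IsComponent M ∧
      ¬ K ≤ centralizer (M : Set G) ∧ ¬ InOrbit β L M := by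
    intro L hL
    by_cases hin : InOrbit β L L0
    · obtain ⟨M, hM, hKM, hMo⟩ := hall L0 hL0 hKL0
      refine ⟨M, hM, hKM, ?_⟩
      rintro ⟨j, rfl⟩
      obtain ⟨i, rfl⟩ := hin
      refine hMo ⟨j + (r - 1) * i, ?_⟩
      rw [map_map_aut, ← pow_add, show j + (r - 1) * i + i = j + r * i by
        conv_rhs => rw [show r = (r - 1) + 1 by have := hr.pos; omega]
        ring, pow_add, pow_mul, hβ, one_pow, mul_one]
    · exact ⟨L0, hL0, hKL0, hin⟩
  set H := ⨆ p : fixedSub β × ℕ, member β K p with hH
  haveI hHp : Group.IsPerfect H := isPerfect_sSup (by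
    rintro _ ⟨p, rfl⟩
    exact (member_quasisimple hq p).1)
  have hstep : ∀ p, (member β K p).map β.toMonoidHom = member β K (p.1, 1 + p.2) := fun p => by
    have := member_map K p 1 1
    rwa [one_mul, coe_one, map_one, one_mul, pow_one] at this
  have hHs : Stable β H := by
    intro x hx
    have : H.map β.toMonoidHom ≤ H := by
      rw [hH, Subgroup.map_iSup]
      exact iSup_le fun p => hstep p ▸ le_iSup (fun p => member β K p) _
    exact this (mem_map_of_mem _ hx)
  have hHg : commSub β H = H := by
    refine le_antisymm (commSub_le hHs) (iSup_le fun p => ?_)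
    refine le_commSub_of_quasisimple (member_quasisimple hq p) (le_iSup (fun p => member β K p) p)
      (member_not_fixed hK p) ?_
    rw [hstep]
    by_cases h : member β K (p.1, 1 + p.2) = member β K p
    · exact Or.inl h
    · exact Or.inr (horb.pair hβ hr.pos _ _ (Ne.symm h))
  set P : Subgroup G := ⨅ M : {M : Subgroup G // Cfsg.IsComponent M ∧ ¬ InOrbit β L0 M},
    centralizer (M.1 : Set G) with hP
  haveI : P.Normal := normal_iInf_normal fun M => by
    haveI := normal_of_component hG M.2.1
    infer_instance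
  have hr1 : β * β ^ (r - 1) = 1 := by
    rw [← pow_succ', Nat.sub_add_cancel hr.pos, hβ]
  have hPs : Stable β P := by
    intro x hx
    rw [hP, mem_iInf] at hx ⊢
    rintro ⟨M, hM, hout⟩
    rw [mem_centralizer_iff]
    intro m hm
    have h := mem_centralizer_iff.mp (hx ⟨M.map (β ^ (r - 1)).toMonoidHom,
      IsComponent.mapEquiv hM _, fun hin => hout (by
        have h2 := hin.map 1
        rwa [map_map_aut, pow_one, hr1, show M.map (1 : MulAut G).toMonoidHom = M from M.map_id]
          at h2)⟩) _ (mem_map_of_mem _ hm)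
    have e : β ((β ^ (r - 1)) m) = m := by rw [← MulAut.mul_apply, hr1]; rfl
    have h3 := congrArg β h
    rw [map_mul, map_mul, MulEquiv.coe_toMonoidHom, e] at h3
    exact h3
  have hL0P : L0 ≤ P := le_iInf fun M => IsComponent.le_centralizer_of_ne hL0 M.2.1
    fun e => M.2.2 ⟨0, by rw [pow_zero]; exact (L0.map_id).trans e⟩
  have hfix : ∀ x : H, ∀ m : P, β (m : G) = m → (x : G) * m * (x : G)⁻¹ = m := by
    intro x m hm
    suffices H ≤ centralizer {(m : G)} by
      rw [mem_centralizer_singleton_iff.mp (this x.2), mul_inv_cancel_right]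
    refine iSup_le fun p k hk => mem_centralizer_singleton_iff.mpr ?_
    set e := MulAut.conj (p.1 : G) * β ^ p.2 with he
    obtain ⟨M, hM, hKM, hMo⟩ := hall' (L0.map e.symm.toMonoidHom) (IsComponent.mapEquiv hL0 _)
    have hpM : ¬ member β K p ≤ centralizer ((M.map e.toMonoidHom : Subgroup G) : Set G) := by
      intro h
      refine hKM fun k hk => mem_centralizer_iff.mpr fun y hy => e.injective ?_
      rw [map_mul, map_mul]
      exact mem_centralizer_iff.mp (h (mem_map_of_mem _ hk)) _ (mem_map_of_mem _ hy)
    have hout : ¬ InOrbit β L0 (M.map e.toMonoidHom) := by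
      rintro ⟨i, hi⟩
      refine hMo ⟨i, ?_⟩
      have hcom : Commute e (β ^ i) := by
        show e * β ^ i = β ^ i * e
        rw [he, mul_assoc, ← pow_add, add_comm, pow_add, ← mul_assoc, ← apply_conj_pow p.1.2,
          mul_assoc]
      have h4 := congrArg (fun N : Subgroup G => N.map e.symm.toMonoidHom) hi
      simp only [map_map_aut] at h4
      rw [map_map_aut, show β ^ i * e.symm = e.symm * β ^ i from (hcom.inv_left).eq.symm, h4,
        show e.symm * e = 1 from inv_mul_cancel e]
      exact M.map_id
    exact ((commute_of_mem_centralizer hr hβ hG hq horb p (IsComponent.mapEquiv hM e) hpM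
      (mem_fixedSub.mpr hm)
      ((mem_iInf.mp m.2) ⟨M.map e.toMonoidHom, IsComponent.mapEquiv hM e, hout⟩)) k hk).eq.symm
  have hone := eq_one_of_fixed_centralised ((MulAut.conjNormal (G := G) (H := P)).comp H.subtype)
    (resAut β H hHs) (resAut β P hPs) hr (resAut_pow_eq_one hHs hβ) (resAut_pow_eq_one hPs hβ)
    (fun x => MulEquiv.ext fun m => by
      obtain ⟨l, rfl⟩ := (resAut β P hPs).surjective m
      rw [MulAut.mul_apply, MulAut.mul_apply, MulAut.inv_apply_self]
      refine Subtype.ext ?_
      simp only [MonoidHom.comp_apply, coe_subtype, MulAut.conjNormal_apply, resAut_apply,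
        map_mul, map_inv])
    (commSub_resAut_eq_top hHs hHg) (fun hd => hcop (hd.trans (card_subgroup_dvd_card H)))
    (fun hd => hcop (hd.trans (card_subgroup_dvd_card P)))
    (fun x m hm => Subtype.ext (by
      simp only [MonoidHom.comp_apply, coe_subtype, MulAut.conjNormal_apply]
      exact hfix x m (by rw [← resAut_apply β P hPs m, hm])))
  refine hKL0 fun k hk => mem_centralizer_iff.mpr fun l hl => ?_
  have hkH : k ∈ H := le_iSup (fun p => member β K p) (1, 0) (by rwa [member_zero])
  have h5 := congrArg Subtype.val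
    (DFunLike.congr_fun (DFunLike.congr_fun hone ⟨k, hkH⟩) ⟨l, hL0P hl⟩)
  simp only [MonoidHom.comp_apply, coe_subtype, MulAut.conjNormal_apply, MonoidHom.one_apply,
    MulAut.one_apply] at h5
  calc l * k = k * l * k⁻¹ * k := by rw [h5]
    _ = k * l := by group

end Cfsg.Agent.FixedFree.Centralised
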