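import Cfsg.Agent.Lib.Coprime.FixedFree.Centralised.Main
import Cfsg.Agent.Lib.Components.Signalizer.Basic

/-!
# Consequences: the commutator with `α` acts as a solvable group

If a group acts on `G` centralising the fixed points of a compatible coprime automorphism of
prime order, the image of its commutator subgroup with the automorphism is solvable.
-/

set_option autoImplicit false
set_option linter.style.haveILetI false
set_option linter.unusedSectionVars false

universe u

namespace Cfsg.Agent.FixedFree.Centralised

open Subgroup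
open scoped commutatorElement

/-- A finite group has a greatest solvable normal subgroup. -/
theorem exists_greatest_solvable_normal (M : Type*) [Group M] [Finite M] :
    ∃ S : Subgroup M, S.Normal ∧ Group.IsSolvable S ∧
      ∀ N : Subgroup M, N.Normal → Group.IsSolvable N → N ≤ S := by
  haveI : Nonempty {S : Subgroup M // S.Normal ∧ Group.IsSolvable S} :=
    ⟨⟨⊥, inferInstance, inferInstance⟩⟩
  obtain ⟨⟨S, hn, hs⟩, hmax⟩ := Finite.exists_max
    (fun S : {S : Subgroup M // S.Normal ∧ Group.IsSolvable S} => Nat.card S.1)
  refine ⟨S, hn, hs, fun N hN hNs => ?_⟩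
  haveI := hn
  haveI := hN
  have h := hmax ⟨S ⊔ N, inferInstance, CfsgLib.Components.Signalizer.isSolvable_sup
    (by rw [normalizer_eq_top]; exact le_top) hs hNs⟩
  exact le_sup_right.trans (Subgroup.eq_of_le_of_card_ge le_sup_left h).ge

/-- If `L = [L, α]` and `[M, α]` is solvable for a stable normal subgroup `M`, then `M` is
solvable. -/
theorem isSolvable_of_commSub {L : Type*} [Group L] [Finite L] (α : MulAut L) (M : Subgroup L)
    [M.Normal] (hM : Stable α M) (hgen : commSub α (⊤ : Subgroup L) = ⊤)
    (hsol : Group.IsSolvable (commSub α M)) : Group.IsSolvable M := by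
  obtain ⟨S, hSn, hSs, hSmax⟩ := exists_greatest_solvable_normal M
  haveI := hSn
  haveI := hSs
  haveI hSc : S.Characteristic := characteristic_iff_map_le.mpr fun e =>
    hSmax _ (hSn.map e.toMonoidHom e.surjective)
      (Group.isSolvable_of_surjective (f := e.toMonoidHom.subgroupMap S)
        (MonoidHom.subgroupMap_surjective _ _))
  haveI hQn : ((commSub α M).subgroupOf M).Normal :=
    (normal_subgroupOf_iff_le_normalizer (commSub_le hM)).mpr (le_normalizer_commSub α M)
  haveI hQs : Group.IsSolvable ((commSub α M).subgroupOf M) :=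
    haveI := hsol
    Group.isSolvable_of_isSolvable_injective
      (f := (subgroupOfEquivOfLe (commSub_le hM)).toMonoidHom)
      (subgroupOfEquivOfLe (commSub_le hM)).injective
  have hQS : commSub α M ≤ S.map M.subtype := by
    have h := map_mono (f := M.subtype) (hSmax _ hQn hQs)
    rwa [subgroupOf_map_subtype, inf_eq_left.mpr (commSub_le hM)] at h
  haveI : (S.map M.subtype).Normal := inferInstance
  set N := S.map M.subtype with hN
  have hNs : Stable α N := by
    rintro _ ⟨s, hs, rfl⟩
    exact ⟨resAut α M hM s, stable_of_characteristic S _ s hs, resAut_apply α M hM s⟩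
  set π := QuotientGroup.mk' N with hπ
  have hfix : M.map π ≤ fixedSub (quotAut α N hNs) := by
    rintro _ ⟨m, hm, rfl⟩
    rw [mem_fixedSub, hπ, quotAut_mk']
    exact (QuotientGroup.eq.mpr (hQS (inv_mul_apply_mem_commSub α hm))).symm
  haveI : (M.map π).Normal := Subgroup.Normal.map inferInstance π (QuotientGroup.mk'_surjective N)
  have hcen : commSub (quotAut α N hNs) ⊤ ≤ centralizer (M.map π : Set (L ⧸ N)) :=
    commSub_le_centralizer hfix fun h _ x hx => Subgroup.Normal.conj_mem inferInstance x hx h
  rw [commSub_quotAut, hgen, ← MonoidHom.range_eq_map, QuotientGroup.range_mk'] at hcen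
  have hMM : ⁅M, M⁆ ≤ N := by
    rw [commutator_le]
    intro a ha b hb
    rw [← QuotientGroup.eq_one_iff]
    show π ⁅a, b⁆ = 1
    rw [map_commutatorElement, commutatorElement_eq_one_iff_commute]
    exact (mem_centralizer_iff.mp (hcen (mem_top (π b))) (π a) ⟨a, ha, rfl⟩)
  have hle : commutator M ≤ S := by
    rw [commutator_def, commutator_le]
    intro a _ b _
    obtain ⟨s, hs, e⟩ := hMM (commutator_mem_commutator a.2 b.2)
    rwa [show ⁅a, b⁆ = s from Subtype.ext (by rw [← M.subtype_apply, map_commutatorElement]; exact e.symm)]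
  haveI : Group.IsSolvable (commutator M) :=
    Group.isSolvable_of_isSolvable_injective (inclusion_injective hle)
  exact Group.isSolvable_of_ker_le_range (commutator M).subtype (Abelianization.of (G := M))
    (by rw [Abelianization.ker_of, range_subtype])

/-- If no nontrivial perfect stable subgroup equals its commutator with `α`, then `[H, α]` is
solvable for every stable `H`. -/
theorem isSolvable_commSub_of_perfect {L : Type*} [Group L] [Finite L] {α : MulAut L} {r : ℕ}
    [Fact r.Prime] (hα : α ^ r = 1) (hcop : ¬ r ∣ Nat.card L)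
    (hno : ∀ W : Subgroup L, Stable α W → Group.IsPerfect W → commSub α W = W → W = ⊥) :
    ∀ H : Subgroup L, Stable α H → Group.IsSolvable (commSub α H) := by
  suffices ∀ n, ∀ H : Subgroup L, Nat.card H ≤ n → Stable α H → Group.IsSolvable (commSub α H) from
    fun H => this _ H le_rfl
  intro n
  induction n using Nat.strong_induction_on with
  | _ n IH =>
  intro H hn hH
  have hlt : ∀ K : Subgroup L, K ≤ H → K ≠ H → Nat.card K < n := fun K hle hne =>
    lt_of_lt_of_le (lt_of_le_of_ne (Subgroup.card_le_of_le hle)
      fun e => hne (Subgroup.eq_of_le_of_card_ge hle e.ge)) hn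
  have hcH : ¬ r ∣ Nat.card H := fun hd => hcop (hd.trans (card_subgroup_dvd_card H))
  by_cases hA : commSub α H = H
  · rw [hA]
    by_cases hP : ⁅H, H⁆ = H
    · rw [hno H hH (Subgroup.isPerfect_iff.mpr hP) hA]
      infer_instance
    have hM := IH _ (hlt _ (Subgroup.commutator_le_self H) hP) ⁅H, H⁆ le_rfl
      (stable_commutator α hH hH)
    have hcm : (commutator H).map H.subtype = ⁅H, H⁆ := by
      rw [commutator_def, map_commutator, ← MonoidHom.range_eq_map, range_subtype]
    haveI : Group.IsSolvable (commSub (resAut α H hH) (commutator H)) := by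
      have hmap : (commSub (resAut α H hH) (commutator H)).map H.subtype = commSub α ⁅H, H⁆ := by
        rw [map_commSub H.subtype (resAut_subtype α H hH), hcm]
      haveI := hM
      refine Group.isSolvable_of_isSolvable_injective
        (f := (H.subtype.comp (commSub (resAut α H hH) (commutator H)).subtype).codRestrict
          (commSub α ⁅H, H⁆) fun x => hmap ▸ mem_map_of_mem _ x.2) ?_
      intro a b e
      exact Subtype.ext (Subtype.ext (congrArg (fun t : commSub α ⁅H, H⁆ => (t : L)) e))
    haveI : Group.IsSolvable (commutator H) := isSolvable_of_commSub (resAut α H hH) _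
      (stable_of_characteristic _ _) (commSub_resAut_eq_top hH hA) inferInstance
    exact Group.isSolvable_of_ker_le_range (commutator H).subtype (Abelianization.of (G := H))
      (by rw [Abelianization.ker_of, range_subtype])
  · have h := IH _ (hlt _ (commSub_le hH) hA) (commSub α H) le_rfl (stable_commSub hH)
    rwa [commSub_commSub hα hH hcH] at h

variable {G : Type u} [Group G] [Finite G] {X : Type u} [Group X] [Finite X]

/-- If a group acts centralising the fixed points of a compatible coprime automorphism of prime
order, its commutator with the automorphism acts as a solvable group. -/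
theorem isSolvable_map_commSub (φ : X →* MulAut G) (α : MulAut X) (β : MulAut G) {r : ℕ}
    (hr : r.Prime) (hβ : β ^ r = 1) (hφ : ∀ x, φ (α x) = β * φ x * β⁻¹)
    (hcX : ¬ r ∣ Nat.card X) (hcG : ¬ r ∣ Nat.card G) (hcen : ∀ x g, β g = g → φ x g = g) :
    Group.IsSolvable ((commSub α (⊤ : Subgroup X)).map φ) := by
  haveI := Fact.mk hr
  haveI : Finite (MulAut G) := Finite.of_injective _ DFunLike.coe_injective
  have hL : Stable (MulAut.conj β) φ.range := by
    rintro _ ⟨x, rfl⟩
    exact ⟨α x, hφ x⟩
  have hδ : resAut (MulAut.conj β) φ.range hL ^ r = 1 :=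
    resAut_pow_eq_one hL (by rw [← map_pow, hβ, map_one])
  have hcL : ¬ r ∣ Nat.card φ.range := fun hd => hcX (hd.trans (Subgroup.card_range_dvd φ))
  have hsol := isSolvable_commSub_of_perfect hδ hcL (fun W hW hWp hWg => by
    have h1 : φ.range.subtype.comp W.subtype = 1 := eq_one_of_fixed_centralised
      (φ.range.subtype.comp W.subtype) (resAut (resAut (MulAut.conj β) φ.range hL) W hW) β hr
      (resAut_pow_eq_one hW hδ) hβ (fun w => by
        show ((resAut (resAut (MulAut.conj β) φ.range hL) W hW w : φ.range) : MulAut G) = _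
        rw [resAut_apply, resAut_apply, MulAut.conj_apply]; rfl)
      (commSub_resAut_eq_top hW hWg)
      (fun hd => hcL (hd.trans (card_subgroup_dvd_card W))) hcG (fun w g hg => by
        obtain ⟨x, hx⟩ := w.1.2
        show (w.1 : MulAut G) g = g
        rw [← hx]
        exact hcen x g hg)
    rw [eq_bot_iff]
    intro w hw
    rw [mem_bot]
    exact Subtype.ext (DFunLike.congr_fun h1 (⟨w, hw⟩ : W) : (w : MulAut G) = 1)) ⊤ (stable_top _)
  have hmap : (commSub (resAut (MulAut.conj β) φ.range hL) ⊤).map φ.range.subtype =
      (commSub α (⊤ : Subgroup X)).map φ := by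
    rw [map_commSub φ (β := MulAut.conj β) (fun x => (hφ x).symm), commSub_resAut,
      MonoidHom.range_eq_map]
  rw [← hmap]
  haveI := hsol
  exact Group.isSolvable_of_surjective (MonoidHom.subgroupMap_surjective φ.range.subtype _)

/-- If `X = [X, α]`, a stable perfect normal subgroup centralising the fixed points acts
trivially. -/
theorem eq_one_of_normal_perfect (φ : X →* MulAut G) (α : MulAut X) (β : MulAut G) {r : ℕ}
    (hr : r.Prime) (hβ : β ^ r = 1) (hφ : ∀ x, φ (α x) = β * φ x * β⁻¹)
    (hgen : commSub α (⊤ : Subgroup X) = ⊤) (hcX : ¬ r ∣ Nat.card X) (hcG : ¬ r ∣ Nat.card G)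
    (M : Subgroup X) [M.Normal] [Group.IsPerfect M] (hM : Stable α M)
    (hcen : ∀ x ∈ M, ∀ g, β g = g → φ x g = g) : ∀ x ∈ M, φ x = 1 := by
  haveI : Finite (MulAut G) := Finite.of_injective _ DFunLike.coe_injective
  have h := isSolvable_map_commSub (φ.comp M.subtype) (resAut α M hM) β hr hβ
    (fun m => by
      show φ ((resAut α M hM m : M) : X) = _
      rw [resAut_apply]; exact hφ m)
    (fun hd => hcX (hd.trans (card_subgroup_dvd_card M))) hcG (fun m => hcen m m.2)
  rw [← map_map, commSub_resAut] at h
  have hL : Stable (MulAut.conj β) φ.range := by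
    rintro _ ⟨x, rfl⟩
    exact ⟨α x, hφ x⟩
  set δ := resAut (MulAut.conj β) φ.range hL with hδ
  have hcompat : ∀ x, δ (φ.rangeRestrict x) = φ.rangeRestrict (α x) := fun x => Subtype.ext (by
    rw [hδ, resAut_apply, MonoidHom.coe_rangeRestrict, MonoidHom.coe_rangeRestrict,
      MulAut.conj_apply, hφ])
  haveI : (M.map φ.rangeRestrict).Normal :=
    Subgroup.Normal.map inferInstance _ φ.rangeRestrict_surjective
  have hsol : Group.IsSolvable (commSub δ (M.map φ.rangeRestrict)) := by
    rw [← map_commSub φ.rangeRestrict hcompat]
    haveI := h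
    refine Group.isSolvable_of_isSolvable_injective
      (f := (φ.range.subtype.comp ((commSub α M).map φ.rangeRestrict).subtype).codRestrict
        ((commSub α M).map φ) fun y => ?_) ?_
    · obtain ⟨x, hx, e⟩ := y.2
      exact ⟨x, hx, congrArg Subtype.val e⟩
    · intro a b e
      exact Subtype.ext (Subtype.ext (congrArg (fun t : (commSub α M).map φ => (t : MulAut G)) e))
  have hgen' : commSub δ (⊤ : Subgroup φ.range) = ⊤ := by
    rw [← Subgroup.map_top_of_surjective _ φ.rangeRestrict_surjective,
      ← map_commSub φ.rangeRestrict hcompat, hgen]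
  haveI hMs := isSolvable_of_commSub δ (M.map φ.rangeRestrict) (Stable.map hcompat hM) hgen' hsol
  have h1 : φ.rangeRestrict.comp M.subtype = 1 := eq_one_of_solvable_range _ (by
    rw [MonoidHom.range_comp, range_subtype]; exact hMs)
  intro x hx
  exact congrArg Subtype.val (DFunLike.congr_fun h1 ⟨x, hx⟩)

end Cfsg.Agent.FixedFree.Centralised
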