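import Cfsg.Agent.Lib.Coprime.FixedFree.AutPClosed
import Cfsg.Agent.Lib.Coprime.FixedFree.NoSetupProof
import Cfsg.Agent.Lib.Coprime.FixedFree.PMoved
import Cfsg.Agent.Lib.Solvable.Cores

/-!
# Actions centralising the fixed points: tools

Restriction and quotient of an action compatible with a pair of automorphisms, perfect groups
acting trivially, and the fixed-point-free case on a `p`-group.
-/

set_option autoImplicit false
set_option linter.style.haveILetI false
set_option linter.unusedSectionVars false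

universe u v

namespace Cfsg.Agent.FixedFree.Centralised

open Subgroup
open scoped commutatorElement

section Actions

variable {G : Type u} [Group G] {X : Type v} [Group X]

/-- A characteristic subgroup is stable under every automorphism. -/
theorem stable_of_characteristic (C : Subgroup G) [hC : C.Characteristic] (f : MulAut G) :
    Stable f C := fun c hc => by
  have h := characteristic_iff_map_eq.mp hC f
  rw [← h]
  exact mem_map_of_mem _ hc

/-- Restriction of an action to an invariant subgroup. -/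
def restrictHom (φ : X →* MulAut G) (N : Subgroup G) (h : ∀ x, Stable (φ x) N) :
    X →* MulAut N where
  toFun x :=
    { toFun := fun n => ⟨φ x n, h x n n.2⟩
      invFun := fun n => ⟨φ x⁻¹ n, h x⁻¹ n n.2⟩
      left_inv := fun n => Subtype.ext (by
        show φ x⁻¹ (φ x n) = n
        rw [← MulAut.mul_apply, ← map_mul, inv_mul_cancel, map_one]; rfl)
      right_inv := fun n => Subtype.ext (by
        show φ x (φ x⁻¹ n) = n
        rw [← MulAut.mul_apply, ← map_mul, mul_inv_cancel, map_one]; rfl)
      map_mul' := fun a b => Subtype.ext (map_mul (φ x) (a : G) b) }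
  map_one' := MulEquiv.ext fun n => Subtype.ext (by
    show φ 1 (n : G) = n
    rw [map_one]; rfl)
  map_mul' x y := MulEquiv.ext fun n => Subtype.ext (by
    show φ (x * y) (n : G) = φ x (φ y n)
    rw [map_mul]; rfl)

@[simp] theorem restrictHom_apply (φ : X →* MulAut G) (N : Subgroup G)
    (h : ∀ x, Stable (φ x) N) (x : X) (n : N) : (restrictHom φ N h x n : G) = φ x n := rfl

/-- The action on the quotient by an invariant normal subgroup. -/
noncomputable def quotientHom [Finite G] (φ : X →* MulAut G) (N : Subgroup G) [N.Normal]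
    (h : ∀ x, Stable (φ x) N) : X →* MulAut (G ⧸ N) where
  toFun x := quotAut (φ x) N (h x)
  map_one' := MulEquiv.ext fun u => by
    obtain ⟨g, rfl⟩ := QuotientGroup.mk'_surjective N u
    rw [quotAut_mk', map_one]; rfl
  map_mul' x y := MulEquiv.ext fun u => by
    obtain ⟨g, rfl⟩ := QuotientGroup.mk'_surjective N u
    rw [quotAut_mk', MulAut.mul_apply, quotAut_mk', quotAut_mk', map_mul]; rfl

theorem quotientHom_apply [Finite G] (φ : X →* MulAut G) (N : Subgroup G) [N.Normal]
    (h : ∀ x, Stable (φ x) N) (x : X) (g : G) :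
    quotientHom φ N h x (QuotientGroup.mk' N g) = QuotientGroup.mk' N (φ x g) :=
  quotAut_mk' _ _ (h x) _

/-- A homomorphism from a perfect group with solvable image is trivial. -/
theorem eq_one_of_solvable_range {M : Type*} [Group M] [Group.IsPerfect X] (f : X →* M)
    (h : Group.IsSolvable f.range) : f = 1 := by
  haveI : Group.IsPerfect f.range := Group.IsPerfect.range f
  have hsub : Subsingleton f.range := by
    by_contra hn
    rw [not_subsingleton_iff_nontrivial] at hn
    exact Group.IsPerfect.not_isSolvable f.range h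
  refine MonoidHom.ext fun x => ?_
  have := congrArg Subtype.val
    (hsub.elim (⟨f x, x, rfl⟩ : f.range) 1)
  simpa using this

/-- A perfect group acting trivially on an invariant normal subgroup and on the quotient by it
acts trivially. -/
theorem eq_one_of_chain [Group.IsPerfect X] (φ : X →* MulAut G) (N : Subgroup G) [hN : N.Normal]
    (h1 : ∀ x, ∀ n ∈ N, φ x n = n) (h2 : ∀ x g, g⁻¹ * φ x g ∈ N) : φ = 1 := by
  have hcen : ∀ x g, ∀ n ∈ N, Commute (g⁻¹ * φ x g) n := by
    intro x g n hn
    have h := h1 x _ (hN.conj_mem n hn g)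
    rw [map_mul, map_mul, map_inv, h1 x n hn] at h
    show g⁻¹ * φ x g * n = n * (g⁻¹ * φ x g)
    calc g⁻¹ * φ x g * n = g⁻¹ * (φ x g * n * (φ x g)⁻¹) * φ x g := by group
      _ = n * (g⁻¹ * φ x g) := by rw [h]; group
  have hkey : ∀ x y g, φ x (φ y g) = g * (g⁻¹ * φ x g) * (g⁻¹ * φ y g) := by
    intro x y g
    have h : φ y g = g * (g⁻¹ * φ y g) := by group
    conv_lhs => rw [h, map_mul, h1 x _ (h2 y g)]
    group
  have hker : commutator X ≤ φ.ker := by
    rw [commutator_def, commutator_le]
    intro x _ y _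
    rw [MonoidHom.mem_ker, map_commutatorElement, commutatorElement_eq_one_iff_commute]
    refine MulEquiv.ext fun g => ?_
    rw [MulAut.mul_apply, MulAut.mul_apply, hkey, hkey, mul_assoc g, mul_assoc g,
      (hcen x g _ (h2 y g)).eq]
  rw [Group.IsPerfect.commutator_eq_top] at hker
  exact MonoidHom.ext fun x => MonoidHom.mem_ker.mp (hker (mem_top x))

end Actions

/-- A perfect group `X = [X, α]` acting on a `p`-group on which the compatible automorphism of
prime order prime to `|X|` has no fixed points acts trivially. -/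
theorem eq_one_of_pGroup {G : Type u} [Group G] [Finite G] {X : Type u} [Group X] [Finite X]
    [Group.IsPerfect X] {p r : ℕ} [Fact p.Prime] (hG : IsPGroup p G) (hr : r.Prime) (hrp : r ≠ p)
    (φ : X →* MulAut G) (α : MulAut X) (β : MulAut G) (hα : α ^ r = 1) (hβ : β ^ r = 1)
    (hφ : ∀ x, φ (α x) = β * φ x * β⁻¹) (hfree : ∀ g, β g = g → g = 1)
    (hgen : commSub α (⊤ : Subgroup X) = ⊤) (hcop : ¬ r ∣ Nat.card X) : φ = 1 := by
  haveI := Fact.mk hr
  letI : CommGroup (G ⧸ frattini G) :=
    { (inferInstance : Group (G ⧸ frattini G)) with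
      mul_comm := CfsgLib.PGroup.Frattini.quotient_mul_comm hG }
  letI : Module (ZMod p) (Additive (G ⧸ frattini G)) :=
    AddCommGroup.zmodModule (n := p) (G := Additive (G ⧸ frattini G)) fun v =>
      congrArg Additive.ofMul (CfsgLib.PGroup.Frattini.quotient_pow_eq_one hG (Additive.toMul v))
  haveI : Module.Finite (ZMod p) (Additive (G ⧸ frattini G)) := Module.Finite.of_finite
  set f : MulAut G →* Module.End (ZMod p) (Additive (G ⧸ frattini G)) :=
    (autEnd (A := G ⧸ frattini G) (p := p)).comp frattiniAut with hf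
  set ψ : X →* Module.End (ZMod p) (Additive (G ⧸ frattini G)) := f.comp φ with hψ
  have hcomm : ∀ x, f β * ψ x = ψ (α x) * f β := fun x => by
    show f β * f (φ x) = f (φ (α x)) * f β
    rw [← map_mul, ← map_mul, hφ, inv_mul_cancel_right]
  have ha : f β ^ r = 1 := by rw [← map_pow, hβ, map_one]
  have hN : Stable α ψ.ker := by
    intro x hx
    rw [MonoidHom.mem_ker] at hx ⊢
    refine (IsUnit.of_pow_eq_one ha hr.ne_zero).mul_right_cancel ?_
    rw [← hcomm, hx, mul_one, one_mul]
  have hfree' : ∀ u : G ⧸ frattini G, frattiniAut β u = u → u = 1 := by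
    intro u hu
    obtain ⟨x, hx, rfl⟩ := exists_fixed_lift (frattini_stable β) hβ (fun hd => by
      obtain ⟨k, hk⟩ := IsPGroup.iff_card.mp (hG.to_subgroup (frattini G))
      rw [hk] at hd
      exact hrp ((Nat.prime_dvd_prime_iff_eq hr Fact.out).mp (hr.dvd_of_dvd_pow hd))) hu
    rw [hfree x hx, map_one]
  have hk : ∀ x, faithfulQuot ψ (QuotientGroup.mk' ψ.ker x) = ψ x := faithfulQuot_mk' ψ
  have hmod : TwoModCore p (quotAut α ψ.ker hN) := by
    refine twoModCoreTheorem_of_noSetup.{u, u, 0} noSetup (ZMod p) p r (X ⧸ ψ.ker)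
      (Additive (G ⧸ frattini G)) (faithfulQuot ψ) (quotAut α ψ.ker hN) (f β) hr hrp
      (faithfulQuot_injective ψ) (quotAut_pow_eq_one hN hα) ha (fun u => ?_)
      (fun v hv => autEnd_free (p := p) hfree' v hv)
      (fun hd => hcop (hd.trans (card_quotient_dvd_card ψ.ker)))
    obtain ⟨x, rfl⟩ := QuotientGroup.mk'_surjective ψ.ker u
    rw [quotAut_mk', hk, hk]
    exact hcomm x
  have htop : commSub (quotAut α ψ.ker hN) ⊤ = ⊤ := by
    rw [commSub_quotAut, hgen, ← MonoidHom.range_eq_map, QuotientGroup.range_mk']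
  haveI := CfsgLib.Solvable.Cores.pCore_normal (G := X ⧸ ψ.ker) p
  have h2 : IsPGroup 2 ((X ⧸ ψ.ker) ⧸ Cfsg.pCore p (X ⧸ ψ.ker)) := by
    intro u
    obtain ⟨x, rfl⟩ := QuotientGroup.mk'_surjective _ u
    obtain ⟨k, hk'⟩ := hmod x (by rw [htop]; exact mem_top x)
    exact ⟨k, by rw [← map_pow]; exact (QuotientGroup.eq_one_iff _).mpr hk'⟩
  haveI : Fact (Nat.Prime 2) := ⟨Nat.prime_two⟩
  haveI : Group.IsNilpotent ((X ⧸ ψ.ker) ⧸ Cfsg.pCore p (X ⧸ ψ.ker)) := h2.isNilpotent
  haveI : Group.IsNilpotent (Cfsg.pCore p (X ⧸ ψ.ker)) :=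
    (CfsgLib.Solvable.Cores.isPGroup_pCore p).isNilpotent
  have hsol : Group.IsSolvable (X ⧸ ψ.ker) :=
    Group.isSolvable_of_ker_le_range (Cfsg.pCore p (X ⧸ ψ.ker)).subtype (QuotientGroup.mk' (Cfsg.pCore p (X ⧸ ψ.ker)))
      (by rw [QuotientGroup.ker_mk', range_subtype])
  have hsub : Subsingleton (X ⧸ ψ.ker) := by
    by_contra hn
    rw [not_subsingleton_iff_nontrivial] at hn
    exact Group.IsPerfect.not_isSolvable (X ⧸ ψ.ker) hsol
  have hker : ∀ x, φ x ∈ (frattiniAut (P := G)).ker := by
    intro x
    have h1 : ψ x = 1 := by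
      rw [← hk x, hsub.elim (QuotientGroup.mk' ψ.ker x) 1, map_one]
    exact MonoidHom.mem_ker.mpr (autEnd_injective (h1.trans (map_one _).symm))
  have hle : φ.range ≤ (frattiniAut (P := G)).ker := by
    rintro _ ⟨x, rfl⟩
    exact hker x
  haveI : Finite (MulAut G) := Finite.of_injective _ DFunLike.coe_injective
  haveI : Group.IsNilpotent φ.range := ((isPGroup_ker_frattiniAut hG).to_le hle).isNilpotent
  exact eq_one_of_solvable_range φ inferInstance

end Cfsg.Agent.FixedFree.Centralised
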